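import Groth.Agent.L02.InjFlat.BaseChange
import Groth.Agent.L00.StalkFunctor
import Groth.Agent.L20.ModPullback
import Groth.Agent.L20.ModFlat

/-!
The condition at a point of a scheme on affine pieces.
-/

set_option autoImplicit false
set_option linter.style.haveILetI false
set_option maxSynthPendingDepth 3
set_option backward.isDefEq.respectTransparency.types false
set_option backward.isDefEq.respectTransparency false

universe u

open CategoryTheory CategoryTheory.Limits AlgebraicGeometry TopologicalSpace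
open Groth.L20.ModStalk

namespace Groth.L02.InjFlat

variable {X Y : Scheme.{u}}

/-- A map of modules on sections. -/
noncomputable def sec {F' F : X.Modules} (u : F' ⟶ F) (V : X.Opens) : Γ(F', V) →ₗ[Γ(X, V)] Γ(F, V) where
  toFun := fun m => u.app V m
  map_add' := fun a b => map_add _ a b
  map_smul' := fun r m => Scheme.Modules.Hom.app_smul u r m

theorem sec_apply {F' F : X.Modules} (u : F' ⟶ F) (V : X.Opens) (m : Γ(F', V)) : sec u V m = u.app V m := rfl

variable (f : X ⟶ Y) {F' F : X.Modules} [Coh.IsQCoh F'] [Coh.IsQCoh F] (u : F' ⟶ F)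
  {U : Y.Opens} (hU : IsAffineOpen U) {V : X.Opens} (hV : IsAffineOpen V) (e : V ≤ f ⁻¹ᵁ U)
  {x : X} (hx : x ∈ V)

omit [Coh.IsQCoh F'] [Coh.IsQCoh F] in
theorem stalk_germ (m : Γ(F', V)) :
    ((Groth.L00.Stk.F X x).map u).hom (F'.presheaf.germ V x hx m) = F.presheaf.germ V x hx (sec u V m) :=
  TopCat.Presheaf.stalkFunctor_map_germ_apply V x hx _ m

include hV in
/-- Injectivity on a stalk, on sections. -/
theorem injective_stalk_iff :
    Function.Injective ((Groth.L00.Stk.F X x).map u).hom ↔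
      ∀ m, sec u V m = 0 → ∃ t ∉ (hV.primeIdealOf ⟨x, hx⟩).asIdeal, t • m = 0 := by
  letI := stalkModule F hx
  letI := stalkModule F' hx
  haveI h1 := isLocalizedModule_germ F hV hx
  haveI h2 := isLocalizedModule_germ F' hV hx
  set q := (hV.primeIdealOf ⟨x, hx⟩).asIdeal
  constructor
  · intro h m hm
    have h0 : germₗ F' hx m = 0 := h (by
      rw [map_zero]
      refine (stalk_germ u hx m).trans ?_
      rw [hm, map_zero])
    obtain ⟨r, hr⟩ := (IsLocalizedModule.eq_zero_iff q.primeCompl (germₗ F' hx)).mp h0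
    exact ⟨r, r.2, hr⟩
  · intro h
    rw [injective_iff_map_eq_zero]
    intro z hz
    obtain ⟨⟨m, s⟩, hms⟩ := IsLocalizedModule.surj q.primeCompl (germₗ F' hx) z
    have h0 : F.presheaf.germ V _ hx (sec u V m) = 0 := by
      rw [← stalk_germ u hx]
      show ((Groth.L00.Stk.F X x).map u).hom (germₗ F' hx m) = 0
      rw [← hms, Submonoid.smul_def]
      show ((Groth.L00.Stk.F X x).map u).hom ((X.presheaf.germ V _ hx).hom s • z) = 0
      rw [map_smul, hz, smul_zero]
    obtain ⟨t, ht⟩ := (IsLocalizedModule.eq_zero_iff q.primeCompl (germₗ F hx)).mp h0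
    obtain ⟨r, hr, hrm⟩ := h ((t : Γ(X, V)) • m) (by rw [map_smul, ← Submonoid.smul_def, ht])
    have h0' : germₗ F' hx m = 0 := (IsLocalizedModule.eq_zero_iff q.primeCompl (germₗ F' hx)).mpr
      ⟨⟨r * t, q.primeCompl.mul_mem hr t.2⟩, (mul_smul r (t : Γ(X, V)) m).trans hrm⟩
    rw [← hms] at h0'
    exact (IsLocalizedModule.smul_inj (germₗ F' hx) s z 0).mp (by rw [smul_zero]; exact h0')

include hU hV in
/-- The condition at a point, on affine sections. -/
theorem injFlat_iff :
    letI := (f.appLE U V e).hom.toAlgebra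
    letI := Module.compHom Γ(F, V) (f.appLE U V e).hom
    haveI : IsScalarTower Γ(Y, U) Γ(X, V) Γ(F, V) := IsScalarTower.of_algebraMap_smul fun _ _ => rfl
    (Function.Injective ((Groth.L00.Stk.F X x).map u).hom ∧ FlatMod.IsFlatOverAt f (cokernel u) x) ↔
      InjFlatAt Γ(Y, U) (sec u V) (hV.primeIdealOf ⟨x, hx⟩).asIdeal := by
  letI := (f.appLE U V e).hom.toAlgebra
  letI := Module.compHom Γ(F, V) (f.appLE U V e).hom
  haveI : IsScalarTower Γ(Y, U) Γ(X, V) Γ(F, V) := IsScalarTower.of_algebraMap_smul fun _ _ => rfl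
  refine and_congr (injective_stalk_iff u hV hx) ?_
  set q := (hV.primeIdealOf ⟨x, hx⟩).asIdeal
  letI := stalkModule F hx
  letI := stalkModule F' hx
  letI := X.presheaf.algebra_section_stalk (U := V) ⟨x, hx⟩
  haveI := hV.isLocalization_stalk ⟨x, hx⟩
  haveI : IsScalarTower Γ(X, V) (X.presheaf.stalk x) (F.presheaf.stalk x) :=
    IsScalarTower.of_algebraMap_smul fun _ _ => rfl
  haveI : IsScalarTower Γ(X, V) (X.presheaf.stalk x) (F'.presheaf.stalk x) :=
    IsScalarTower.of_algebraMap_smul fun _ _ => rfl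
  haveI := isLocalizedModule_germ F hV hx
  haveI := isLocalizedModule_germ F' hV hx
  let v : F'.presheaf.stalk x →ₗ[X.presheaf.stalk x] F.presheaf.stalk x := ((Groth.L00.Stk.F X x).map u).hom
  have hr : (LinearMap.range (sec u V)).localized' (X.presheaf.stalk x) q.primeCompl (germₗ F hx) = LinearMap.range v := by
    rw [← (LinearMap.range (sec u V)).span_eq, Submodule.localized'_span, LinearMap.range_eq_map v,
      ← Submodule.localized'_top (X.presheaf.stalk x) q.primeCompl (germₗ F' hx), Submodule.localized'_eq_span,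
      Submodule.map_span]
    congr 1
    ext z
    constructor
    · rintro ⟨_, ⟨m, rfl⟩, rfl⟩
      exact ⟨_, ⟨m, trivial, rfl⟩, stalk_germ u hx m⟩
    · rintro ⟨_, ⟨m, -, rfl⟩, rfl⟩
      exact ⟨sec u V m, ⟨m, rfl⟩, (stalk_germ u hx m).symm⟩
  let ec : (Groth.L00.Stk.F X x).obj (cokernel u) ≅
      ModuleCat.of (X.presheaf.stalk x) (F.presheaf.stalk x ⧸ LinearMap.range v) :=
    PreservesCokernel.iso (Groth.L00.Stk.F X x) u ≪≫
      ModuleCat.cokernelIsoRangeQuotient ((Groth.L00.Stk.F X x).map u)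
  rw [isFlatOverAt_iff_sections f (cokernel u) hU e hx]
  letI : Algebra Γ(Y, U) (X.presheaf.stalk x) :=
    ((X.presheaf.germ V x hx).hom.comp (f.appLE U V e).hom).toAlgebra
  letI : Module Γ(Y, U) (F.presheaf.stalk x) :=
    Module.compHom _ ((X.presheaf.germ V x hx).hom.comp (f.appLE U V e).hom)
  haveI : IsScalarTower Γ(Y, U) (X.presheaf.stalk x) (F.presheaf.stalk x) :=
    IsScalarTower.of_algebraMap_smul fun _ _ => rfl
  haveI : IsScalarTower Γ(Y, U) Γ(X, V) (F.presheaf.stalk x) := IsScalarTower.of_algebraMap_smul fun _ _ => rfl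
  letI : Module Γ(Y, U) ((cokernel u).presheaf.stalk x) :=
    Module.compHom _ ((X.presheaf.germ V x hx).hom.comp (f.appLE U V e).hom)
  let eR : (cokernel u).presheaf.stalk x ≃ₗ[Γ(Y, U)] F.presheaf.stalk x ⧸ LinearMap.range v :=
    { ec.toLinearEquiv.toAddEquiv with
      map_smul' := fun r m => by
        refine (ec.toLinearEquiv.map_smul ((X.presheaf.germ V x hx).hom ((f.appLE U V e).hom r)) m).trans ?_
        exact algebraMap_smul (X.presheaf.stalk x) r (ec.toLinearEquiv m) }
  let e₂ := IsLocalizedModule.iso q.primeCompl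
    ((LinearMap.range (sec u V)).toLocalizedQuotient' (X.presheaf.stalk x) q.primeCompl (germₗ F hx))
  exact Module.Flat.equiv_iff (eR ≪≫ₗ ((Submodule.quotEquivOfEq _ _ hr).restrictScalars Γ(Y, U)).symm ≪≫ₗ
    (e₂.restrictScalars Γ(Y, U)).symm)

end Groth.L02.InjFlat
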