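import Groth.Agent.L02.InjFlat.Model
import Groth.Agent.L05.Glue.FlatTorsion
import Mathlib.RingTheory.Localization.BaseChange
import Mathlib.Algebra.Module.LocalizedModule.Exact

/-!
A map of modules injective with flat cokernel at a prime, and base change of the base ring.
-/

set_option autoImplicit false
set_option linter.style.haveILetI false
set_option maxSynthPendingDepth 3

universe u

open scoped TensorProduct
open TensorProduct LinearMap

namespace Groth.L02.InjFlat

/-- Injective at `q`, with cokernel flat over the base at `q`. -/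
def InjFlatAt (R : Type*) [CommRing R] {U M N : Type*} [CommRing U] [AddCommGroup M] [Module U M]
    [AddCommGroup N] [Module U N] [Module R N] [Algebra R U] [IsScalarTower R U N]
    (u : M →ₗ[U] N) (q : Ideal U) [q.IsPrime] : Prop :=
  (∀ m, u m = 0 → ∃ t ∉ q, t • m = 0) ∧ Module.Flat R (LocalizedModule q.primeCompl (N ⧸ LinearMap.range u))

section Torsion

variable {R U M N : Type u} [CommRing R] [CommRing U] [Algebra R U]
  [AddCommGroup M] [Module U M] [Module R M] [IsScalarTower R U M]
  [AddCommGroup N] [Module U N] [Module R N] [IsScalarTower R U N]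

/-- An injective map with cokernel flat at `T` stays injective up to `T`-torsion. -/
theorem exists_smul_eq_zero_of_flat_coker (T : Submonoid U) (w : M →ₗ[U] N) (hw : Function.Injective w)
    [Module.Flat R (LocalizedModule T (N ⧸ LinearMap.range w))] {A : Type u} [AddCommGroup A] [Module R A]
    (z : M ⊗[R] A) (hz : (w.restrictScalars R).rTensor A z = 0) : ∃ t ∈ T, t • z = 0 := by
  let lM := LocalizedModule.mkLinearMap T M
  let lN := LocalizedModule.mkLinearMap T N
  let lC := LocalizedModule.mkLinearMap T (N ⧸ LinearMap.range w)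
  let wT := IsLocalizedModule.map T lM lN w
  let pT := IsLocalizedModule.map T lN lC (LinearMap.range w).mkQ
  have hinj : Function.Injective wT := IsLocalizedModule.map_injective T lM lN w hw
  have hex : Function.Exact wT pT := IsLocalizedModule.map_exact T lM lN lC w _
    (fun y => Submodule.Quotient.mk_eq_zero _)
  have hsur : Function.Surjective pT := IsLocalizedModule.map_surjective T lN lC _ (Submodule.mkQ_surjective _)
  have huniv := Groth.L05.FlatTorsion.lTensor_injective_of_flat_coker (wT.restrictScalars R)
    (pT.restrictScalars R) hinj hex hsur A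
  have hnat : ∀ z : M ⊗[R] A, (wT.restrictScalars R).lTensor A
      (TensorProduct.comm R _ A (AlgebraTensorModule.rTensor R A lM z)) =
      TensorProduct.comm R _ A (AlgebraTensorModule.rTensor R A lN ((w.restrictScalars R).rTensor A z)) := by
    intro z
    induction z using TensorProduct.induction_on with
    | zero => simp
    | tmul m a =>
      show a ⊗ₜ[R] (IsLocalizedModule.map T lM lN w) (lM m) = a ⊗ₜ[R] lN (w m)
      rw [IsLocalizedModule.map_apply]
    | add a b ha hb => simp only [map_add, ha, hb]
  have h0 : AlgebraTensorModule.rTensor R A lM z = 0 := by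
    apply (TensorProduct.comm R _ A).injective
    apply huniv
    rw [hnat, hz]
    simp
  obtain ⟨t, ht⟩ := (IsLocalizedModule.eq_zero_iff T (AlgebraTensorModule.rTensor R A lM)).mp h0
  exact ⟨t, t.2, ht⟩

/-- The kernel after base change comes from the kernel, up to `T`-torsion. -/
theorem exists_smul_mem_range_ker (T : Submonoid U) (w : M →ₗ[U] N)
    [Module.Flat R (LocalizedModule T (N ⧸ LinearMap.range w))] {A : Type u} [AddCommGroup A] [Module R A]
    (z : M ⊗[R] A) (hz : (w.restrictScalars R).rTensor A z = 0) :
    ∃ t ∈ T, t • z ∈ LinearMap.range (AlgebraTensorModule.rTensor R A (LinearMap.ker w).subtype) := by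
  let p := (LinearMap.ker w).mkQ
  let w' : (M ⧸ LinearMap.ker w) →ₗ[U] N := (LinearMap.ker w).liftQ w le_rfl
  have hrange : LinearMap.range w' = LinearMap.range w := Submodule.range_liftQ _ _ _
  have hw' : Function.Injective w' := LinearMap.ker_eq_bot.mp (Submodule.ker_liftQ_eq_bot _ _ _ le_rfl)
  haveI : Module.Flat R (LocalizedModule T (N ⧸ LinearMap.range w')) := by rw [hrange]; infer_instance
  obtain ⟨t, ht, htz⟩ := exists_smul_eq_zero_of_flat_coker T w' hw' ((p.restrictScalars R).rTensor A z) (by
    rw [← LinearMap.rTensor_comp_apply, show (w'.restrictScalars R) ∘ₗ (p.restrictScalars R) = w.restrictScalars R from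
      LinearMap.ext fun x => rfl]
    exact hz)
  refine ⟨t, ht, ?_⟩
  have hsm : (p.restrictScalars R).rTensor A (t • z) = t • (p.restrictScalars R).rTensor A z :=
    (AlgebraTensorModule.rTensor R A p).map_smul t z
  obtain ⟨y, hy⟩ := (rTensor_exact A
    (show Function.Exact ((LinearMap.ker w).subtype.restrictScalars R) (p.restrictScalars R) from
      LinearMap.exact_subtype_mkQ _) (Submodule.mkQ_surjective _) (t • z)).mp (hsm.trans htz)
  exact ⟨y, hy⟩

end Torsion

section BaseChange

variable {R R' U U' M M' N N' : Type u} [CommRing R] [CommRing R'] [CommRing U] [CommRing U']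
  [Algebra R R'] [Algebra R U] [Algebra R' U'] [Algebra U U'] [Algebra R U'] [IsScalarTower R R' U']
  [IsScalarTower R U U'] [Algebra.IsPushout R U R' U']
  [AddCommGroup M] [Module U M] [Module R M] [IsScalarTower R U M]
  [AddCommGroup N] [Module U N] [Module R N] [IsScalarTower R U N]
  [AddCommGroup M'] [Module U' M'] [Module R' M'] [IsScalarTower R' U' M'] [Module U M'] [IsScalarTower U U' M']
  [AddCommGroup N'] [Module U' N'] [Module R' N'] [IsScalarTower R' U' N'] [Module U N'] [IsScalarTower U U' N']
  (u : M →ₗ[U] N) {gM : M →ₗ[U] M'} (hM : IsBaseChange U' gM) {gN : N →ₗ[U] N'} (hN : IsBaseChange U' gN)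
  (u' : M' →ₗ[U'] N') (hc : ∀ x, u' (gM x) = gN (u x))

include R' hM hN hc

/-- The kernel of the base changed map, up to torsion. -/
theorem exists_smul_mem_span (T : Submonoid U) [Module.Flat R (LocalizedModule T (N ⧸ LinearMap.range u))]
    (z : M') (hz : u' z = 0) :
    ∃ t ∈ T, algebraMap U U' t • z ∈ Submodule.span U' (gM '' (LinearMap.ker u : Set M)) := by
  letI : Module R M' := Module.compHom M' (algebraMap R U')
  haveI : IsScalarTower R U' M' := IsScalarTower.of_algebraMap_smul fun _ _ => rfl
  haveI : IsScalarTower R R' M' := IsScalarTower.of_algebraMap_smul fun r x => by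
    rw [← algebraMap_smul U' (algebraMap R R' r), ← IsScalarTower.algebraMap_apply, algebraMap_smul]
  haveI : IsScalarTower R U M' := IsScalarTower.of_algebraMap_smul fun r x => by
    rw [← algebraMap_smul U' (algebraMap R U r), ← IsScalarTower.algebraMap_apply, algebraMap_smul]
  letI : Module R N' := Module.compHom N' (algebraMap R U')
  haveI : IsScalarTower R U' N' := IsScalarTower.of_algebraMap_smul fun _ _ => rfl
  haveI : IsScalarTower R R' N' := IsScalarTower.of_algebraMap_smul fun r x => by
    rw [← algebraMap_smul U' (algebraMap R R' r), ← IsScalarTower.algebraMap_apply, algebraMap_smul]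
  haveI : IsScalarTower R U N' := IsScalarTower.of_algebraMap_smul fun r x => by
    rw [← algebraMap_smul U' (algebraMap R U r), ← IsScalarTower.algebraMap_apply, algebraMap_smul]
  have hbM : IsBaseChange R' (gM.restrictScalars R) := Groth.L20.isBaseChange_restrictScalars hM
  have hbN : IsBaseChange R' (gN.restrictScalars R) := Groth.L20.isBaseChange_restrictScalars hN
  let Φ : M ⊗[R] R' ≃ₗ[R] M' := TensorProduct.comm R M R' ≪≫ₗ hbM.equiv.restrictScalars R
  have hΦt : ∀ m (a : R'), Φ (m ⊗ₜ a) = a • gM m := fun m a => hbM.equiv_tmul a m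
  have hΦs : ∀ (t : U) w, Φ (t • w) = algebraMap U U' t • Φ w := by
    intro t w
    induction w using TensorProduct.induction_on with
    | zero => simp
    | tmul m a => rw [TensorProduct.smul_tmul', hΦt, hΦt, map_smul, ← algebraMap_smul U' t (gM m), smul_comm]
    | add a b ha hb => simp only [smul_add, map_add, ha, hb]
  obtain ⟨w, rfl⟩ := Φ.surjective z
  have hw : ∀ w : M ⊗[R] R', u' (Φ w) =
      hbN.equiv (TensorProduct.comm R N R' ((u.restrictScalars R).rTensor R' w)) := by
    intro w
    induction w using TensorProduct.induction_on with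
    | zero => simp
    | tmul m a =>
      rw [hΦt, LinearMap.rTensor_tmul, TensorProduct.comm_tmul, hbN.equiv_tmul, LinearMap.map_smul_of_tower, hc]
      rfl
    | add a b ha hb => simp only [map_add, ha, hb]
  rw [hw, LinearEquiv.map_eq_zero_iff, LinearEquiv.map_eq_zero_iff] at hz
  obtain ⟨t, ht, y, hy⟩ := exists_smul_mem_range_ker T u w hz
  refine ⟨t, ht, ?_⟩
  rw [← hΦs, ← hy]
  clear hy hz
  induction y using TensorProduct.induction_on with
  | zero => simp
  | tmul k a =>
    rw [AlgebraTensorModule.rTensor_tmul, hΦt]
    exact Submodule.smul_of_tower_mem _ a (Submodule.subset_span ⟨k.1, k.2, rfl⟩)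
  | add a b ha hb => simp only [map_add]; exact add_mem ha hb

variable (q : Ideal U) [q.IsPrime] (q' : Ideal U') [q'.IsPrime] (hq : q'.comap (algebraMap U U') = q)

include hq

/-- The criterion after base change: the kernel generators must die. -/
theorem injFlatAt_of_torsion (hflat : Module.Flat R (LocalizedModule q.primeCompl (N ⧸ LinearMap.range u)))
    (hk : ∀ k, u k = 0 → ∃ t ∉ q', t • gM k = 0) : InjFlatAt R' u' q' := by
  have hT : ∀ t ∈ q.primeCompl, algebraMap U U' t ∈ q'.primeCompl := fun t ht h => ht (hq ▸ h)
  refine ⟨fun z hz => ?_, ?_⟩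
  · haveI := hflat
    obtain ⟨t, ht, hmem⟩ := exists_smul_mem_span (R := R) (R' := R') u hM hN u' hc q.primeCompl z hz
    suffices ∀ y ∈ Submodule.span U' (gM '' (LinearMap.ker u : Set M)), ∃ s ∉ q', s • y = 0 by
      obtain ⟨s, hs, hsy⟩ := this _ hmem
      exact ⟨s * algebraMap U U' t, q'.primeCompl.mul_mem hs (hT t ht), by rw [mul_smul, hsy]⟩
    intro y hy
    induction hy using Submodule.span_induction with
    | mem y hy =>
      obtain ⟨k, hk', rfl⟩ := hy
      exact hk k hk'
    | zero => exact ⟨1, fun h => Ideal.IsPrime.ne_top inferInstance ((Ideal.eq_top_iff_one q').mpr h), smul_zero _⟩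
    | add a b _ _ ha hb =>
      obtain ⟨s, hs, hsa⟩ := ha
      obtain ⟨s', hs', hsb⟩ := hb
      refine ⟨s * s', q'.primeCompl.mul_mem hs hs', ?_⟩
      rw [smul_add, mul_comm, mul_smul, hsa, mul_comm, mul_smul, hsb, smul_zero, smul_zero, add_zero]
    | smul a y _ hy =>
      obtain ⟨s, hs, hsy⟩ := hy
      exact ⟨s, hs, by rw [smul_comm, hsy, smul_zero]⟩
  · letI : Module R N' := Module.compHom N' (algebraMap R U')
    haveI : IsScalarTower R U' N' := IsScalarTower.of_algebraMap_smul fun _ _ => rfl
    haveI : IsScalarTower R R' N' := IsScalarTower.of_algebraMap_smul fun r x => by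
      rw [← algebraMap_smul U' (algebraMap R R' r), ← IsScalarTower.algebraMap_apply, algebraMap_smul]
    haveI : IsScalarTower R U N' := IsScalarTower.of_algebraMap_smul fun r x => by
      rw [← algebraMap_smul U' (algebraMap R U r), ← IsScalarTower.algebraMap_apply, algebraMap_smul]
    obtain ⟨gC, hgC⟩ := isBaseChange_coker u hM hN u' hc
    haveI := hflat
    exact Groth.L20.flat_localizedModule_of_isBaseChange gC (Groth.L20.isBaseChange_restrictScalars (R := R) (R' := R') hgC)
      q.primeCompl q'.primeCompl hT

/-- Stability under base change. -/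
theorem InjFlatAt.baseChange (h : InjFlatAt R u q) : InjFlatAt R' u' q' :=
  injFlatAt_of_torsion u hM hN u' hc q q' hq h.2 fun k hk => by
    obtain ⟨t, ht, htk⟩ := h.1 k hk
    exact ⟨algebraMap U U' t, fun h' => ht (hq ▸ h'), by
      rw [algebraMap_smul, ← map_smul, htk, map_zero]⟩

end BaseChange

end Groth.L02.InjFlat
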