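import Groth.Agent.L02.InjFlat.PolyModel
import Groth.Agent.L02.InjFlat.BaseChange
import Mathlib.RingTheory.TensorProduct.MvPolynomial

/-!
Moving the condition between an affine piece and a model over a polynomial ring.
-/

set_option autoImplicit false
set_option linter.style.haveILetI false
set_option maxSynthPendingDepth 3

universe u

open scoped TensorProduct
open MvPolynomial

namespace Groth.L02.InjFlat

attribute [local instance] MvPolynomial.algebraMvPolynomial

section Equiv

variable {R U M N M' N' : Type u} [CommRing R] [CommRing U] [Algebra R U]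
  [AddCommGroup M] [Module U M] [AddCommGroup M'] [Module U M']
  [AddCommGroup N] [Module U N] [Module R N] [IsScalarTower R U N]
  [AddCommGroup N'] [Module U N'] [Module R N'] [IsScalarTower R U N']

/-- The condition is invariant under isomorphisms. -/
theorem injFlatAt_congr (u : M →ₗ[U] N) (u' : M' →ₗ[U] N') (eM : M ≃ₗ[U] M') (eN : N ≃ₗ[U] N')
    (hc : ∀ x, u' (eM x) = eN (u x)) (q : Ideal U) [q.IsPrime] (h : InjFlatAt R u q) : InjFlatAt R u' q := by
  refine ⟨fun m hm => ?_, ?_⟩
  · obtain ⟨t, ht, htm⟩ := h.1 (eM.symm m) (eN.injective (by rw [← hc, eM.apply_symm_apply, hm, map_zero]))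
    exact ⟨t, ht, eM.symm.injective (by rw [map_smul, htm, map_zero])⟩
  · have hr : (LinearMap.range u).map eN.toLinearMap = LinearMap.range u' := by
      ext y
      constructor
      · rintro ⟨_, ⟨x, rfl⟩, rfl⟩
        exact ⟨eM x, hc x⟩
      · rintro ⟨x, rfl⟩
        exact ⟨u (eM.symm x), ⟨_, rfl⟩, (hc _).symm.trans (by rw [eM.apply_symm_apply])⟩
    let e : (N ⧸ LinearMap.range u) ≃ₗ[U] (N' ⧸ LinearMap.range u') := Submodule.Quotient.equiv _ _ eN hr
    haveI := h.2
    exact (Groth.L20.flat_localizedModule_iff_of_semilinear (RingHom.id U) (e.restrictScalars R)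
      (fun x m => e.map_smul x m) q.primeCompl q.primeCompl (Submonoid.map_id _).symm).mp h.2

end Equiv

section Canonical

variable {Z : Type u} [CommRing Z] {d : ℕ} {M₀ N₀ : Type u}
  [AddCommGroup M₀] [Module (MvPolynomial (Fin d) Z) M₀]
  [AddCommGroup N₀] [Module (MvPolynomial (Fin d) Z) N₀]

/-- The model over `B` gives the model over a `B`-algebra. -/
theorem canonical_baseChange (u₀ : M₀ →ₗ[MvPolynomial (Fin d) Z] N₀) {B R' : Type u} [CommRing B] [CommRing R']
    [Algebra Z B] [Algebra Z R'] [Algebra B R'] [IsScalarTower Z B R']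
    [IsScalarTower B (MvPolynomial (Fin d) B) (MvPolynomial (Fin d) B ⊗[MvPolynomial (Fin d) Z] N₀)]
    [IsScalarTower R' (MvPolynomial (Fin d) R') (MvPolynomial (Fin d) R' ⊗[MvPolynomial (Fin d) Z] N₀)]
    (q' : Ideal (MvPolynomial (Fin d) R')) [q'.IsPrime]
    (h : InjFlatAt B (u₀.baseChange (MvPolynomial (Fin d) B))
      (q'.comap (algebraMap (MvPolynomial (Fin d) B) (MvPolynomial (Fin d) R')))) :
    InjFlatAt R' (u₀.baseChange (MvPolynomial (Fin d) R')) q' := by
  let U₀ := MvPolynomial (Fin d) Z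
  let U := MvPolynomial (Fin d) B
  let U' := MvPolynomial (Fin d) R'
  haveI : IsScalarTower U₀ U U' := IsScalarTower.of_algebraMap_eq fun a => by
    show MvPolynomial.map (algebraMap Z R') a = MvPolynomial.map (algebraMap B R') (MvPolynomial.map (algebraMap Z B) a)
    rw [MvPolynomial.map_map, ← IsScalarTower.algebraMap_eq]
  haveI : Algebra.IsPushout B R' U U' := inferInstance
  haveI : Algebra.IsPushout B U R' U' := .symm inferInstance
  let gM : U ⊗[U₀] M₀ →ₗ[U] U' ⊗[U₀] M₀ := TensorProduct.AlgebraTensorModule.rTensor U₀ M₀ (Algebra.linearMap U U')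
  let gN : U ⊗[U₀] N₀ →ₗ[U] U' ⊗[U₀] N₀ := TensorProduct.AlgebraTensorModule.rTensor U₀ N₀ (Algebra.linearMap U U')
  have hbc : ∀ (L : Type u) [AddCommGroup L] [Module U₀ L],
      IsBaseChange U' (TensorProduct.AlgebraTensorModule.rTensor U₀ L (Algebra.linearMap U U')) := fun L _ _ => by
    refine IsBaseChange.of_comp (TensorProduct.isBaseChange U₀ L U) ?_
    convert TensorProduct.isBaseChange U₀ L U' using 1
    exact LinearMap.ext fun m => by simp
  haveI : IsScalarTower B U (U ⊗[U₀] M₀) := IsScalarTower.of_algebraMap_smul fun b x => by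
    induction x using TensorProduct.induction_on with
    | zero => simp
    | tmul a m => simp [TensorProduct.smul_tmul', Algebra.smul_def]
    | add x y hx hy => simp only [smul_add, hx, hy]
  haveI : IsScalarTower R' U' (U' ⊗[U₀] M₀) := IsScalarTower.of_algebraMap_smul fun b x => by
    induction x using TensorProduct.induction_on with
    | zero => simp
    | tmul a m => simp [TensorProduct.smul_tmul', Algebra.smul_def]
    | add x y hx hy => simp only [smul_add, hx, hy]
  refine InjFlatAt.baseChange (R := B) (R' := R') (u₀.baseChange U) (hbc M₀) (hbc N₀) _ (fun z => ?_)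
    (q'.comap (algebraMap U U')) q' rfl h
  induction z using TensorProduct.induction_on with
  | zero => simp
  | tmul a m => exact (LinearMap.baseChange_tmul _ _ _).trans rfl
  | add x y hx hy => simp only [map_add, hx, hy]

end Canonical

section Change

variable {Z : Type u} [CommRing Z] {d : ℕ}

set_option maxHeartbeats 800000 in
/-- The condition on a piece is the condition on the model. -/
theorem change {R₀ B₀ M N R' B' M' N' M₀ N₀ : Type u} [CommRing R₀] [Algebra Z R₀] [CommRing B₀] [Algebra R₀ B₀]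
    [Algebra (MvPolynomial (Fin d) R₀) B₀] [IsScalarTower R₀ (MvPolynomial (Fin d) R₀) B₀]
    (hs : Function.Surjective (algebraMap (MvPolynomial (Fin d) R₀) B₀))
    [AddCommGroup M] [Module B₀ M] [Module (MvPolynomial (Fin d) R₀) M] [IsScalarTower (MvPolynomial (Fin d) R₀) B₀ M]
    [AddCommGroup N] [Module B₀ N] [Module (MvPolynomial (Fin d) R₀) N] [IsScalarTower (MvPolynomial (Fin d) R₀) B₀ N]
    (u : M →ₗ[B₀] N)
    [AddCommGroup M₀] [Module (MvPolynomial (Fin d) Z) M₀] [AddCommGroup N₀] [Module (MvPolynomial (Fin d) Z) N₀]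
    (u₀ : M₀ →ₗ[MvPolynomial (Fin d) Z] N₀)
    [Module (MvPolynomial (Fin d) Z) M] [IsScalarTower (MvPolynomial (Fin d) Z) (MvPolynomial (Fin d) R₀) M]
    [Module (MvPolynomial (Fin d) Z) N] [IsScalarTower (MvPolynomial (Fin d) Z) (MvPolynomial (Fin d) R₀) N]
    {gM : M₀ →ₗ[MvPolynomial (Fin d) Z] M} (hM : IsBaseChange (MvPolynomial (Fin d) R₀) gM)
    {gN : N₀ →ₗ[MvPolynomial (Fin d) Z] N} (hN : IsBaseChange (MvPolynomial (Fin d) R₀) gN)
    (hc₀ : ∀ x, u (gM x) = gN (u₀ x))
    [CommRing R'] [Algebra R₀ R'] [Algebra Z R'] [IsScalarTower Z R₀ R'] [CommRing B'] [Algebra B₀ B'] [Algebra R' B']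
    [Algebra R₀ B'] [IsScalarTower R₀ B₀ B'] [IsScalarTower R₀ R' B'] [Algebra.IsPushout R₀ B₀ R' B']
    [Algebra (MvPolynomial (Fin d) R') B'] [IsScalarTower R' (MvPolynomial (Fin d) R') B']
    (hX : ∀ i, algebraMap (MvPolynomial (Fin d) R') B' (X i) = algebraMap B₀ B' (algebraMap (MvPolynomial (Fin d) R₀) B₀ (X i)))
    [AddCommGroup M'] [Module B' M'] [Module B₀ M'] [IsScalarTower B₀ B' M']
    [AddCommGroup N'] [Module B' N'] [Module B₀ N'] [IsScalarTower B₀ B' N'] [Module R' N'] [IsScalarTower R' B' N']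
    [IsScalarTower R' (MvPolynomial (Fin d) R') (MvPolynomial (Fin d) R' ⊗[MvPolynomial (Fin d) Z] N₀)]
    {gM' : M →ₗ[B₀] M'} (hM' : IsBaseChange B' gM') {gN' : N →ₗ[B₀] N'} (hN' : IsBaseChange B' gN')
    (u' : M' →ₗ[B'] N') (hc : ∀ x, u' (gM' x) = gN' (u x))
    (q' : Ideal B') [q'.IsPrime] :
    InjFlatAt R' u' q' ↔
      InjFlatAt R' (u₀.baseChange (MvPolynomial (Fin d) R')) (q'.comap (algebraMap (MvPolynomial (Fin d) R') B')) := by
  let U₀ := MvPolynomial (Fin d) Z
  let P₀ := MvPolynomial (Fin d) R₀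
  let P := MvPolynomial (Fin d) R'
  have hcompat : ∀ p : P₀, algebraMap P B' (algebraMap P₀ P p) = algebraMap B₀ B' (algebraMap P₀ B₀ p) := by
    intro p
    refine RingHom.congr_fun (MvPolynomial.ringHom_ext (f := (algebraMap P B').comp (algebraMap P₀ P))
      (g := (algebraMap B₀ B').comp (algebraMap P₀ B₀)) (fun r => ?_) fun i => ?_) p
    · show algebraMap P B' (MvPolynomial.map (algebraMap R₀ R') (C r)) = algebraMap B₀ B' (algebraMap P₀ B₀ (C r))
      rw [MvPolynomial.map_C, ← MvPolynomial.algebraMap_eq, ← MvPolynomial.algebraMap_eq,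
        ← IsScalarTower.algebraMap_apply R' P B', ← IsScalarTower.algebraMap_apply R₀ P₀ B₀,
        ← IsScalarTower.algebraMap_apply R₀ R' B', ← IsScalarTower.algebraMap_apply R₀ B₀ B']
    · show algebraMap P B' (MvPolynomial.map (algebraMap R₀ R') (MvPolynomial.X i)) = _
      rw [MvPolynomial.map_X]
      exact hX i
  letI : Algebra P₀ B' := ((algebraMap B₀ B').comp (algebraMap P₀ B₀)).toAlgebra
  haveI : IsScalarTower P₀ B₀ B' := IsScalarTower.of_algebraMap_eq fun _ => rfl
  haveI : IsScalarTower P₀ P B' := IsScalarTower.of_algebraMap_eq fun p => (hcompat p).symm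
  have hsP : Function.Surjective (algebraMap P B') := by
    intro b
    induction b using (Algebra.IsPushout.out (R := R₀) (S := R') (R' := B₀) (S' := B')
      (self := Algebra.IsPushout.symm inferInstance)).inductionOn with
    | zero => exact ⟨0, map_zero _⟩
    | tmul b =>
      obtain ⟨p, rfl⟩ := hs b
      exact ⟨algebraMap P₀ P p, hcompat p⟩
    | smul r b ih =>
      obtain ⟨p, rfl⟩ := ih
      exact ⟨r • p, by rw [Algebra.smul_def, Algebra.smul_def, map_mul, ← IsScalarTower.algebraMap_apply]⟩
    | add a b ha hb =>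
      obtain ⟨p, rfl⟩ := ha
      obtain ⟨p', rfl⟩ := hb
      exact ⟨p + p', map_add _ _ _⟩
  haveI : IsScalarTower R₀ P₀ B' := IsScalarTower.of_algebraMap_eq fun r => by
    rw [IsScalarTower.algebraMap_apply P₀ B₀ B', ← IsScalarTower.algebraMap_apply R₀ P₀ B₀,
      ← IsScalarTower.algebraMap_apply R₀ B₀ B']
  haveI : IsScalarTower R₀ P B' := IsScalarTower.of_algebraMap_eq fun r => by
    rw [IsScalarTower.algebraMap_apply R₀ R' P, ← IsScalarTower.algebraMap_apply R' P B',
      ← IsScalarTower.algebraMap_apply R₀ R' B']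
  haveI : Algebra.IsPushout R₀ R' B₀ B' := .symm inferInstance
  haveI : Algebra.IsPushout R₀ R' P₀ P := inferInstance
  haveI : Algebra.IsPushout R₀ P₀ R' P := .symm inferInstance
  haveI : Algebra.IsPushout R₀ B₀ R' B' := .symm inferInstance
  haveI : Algebra.IsPushout P₀ B₀ P B' :=
    (Algebra.IsPushout.comp_iff (R := R₀) (S := P₀) (R' := R') (S' := P) (T := B₀) (T' := B')).mp inferInstance
  letI : Module P M' := Module.compHom M' (algebraMap P B')
  haveI : IsScalarTower P B' M' := IsScalarTower.of_algebraMap_smul fun _ _ => rfl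
  letI : Module P N' := Module.compHom N' (algebraMap P B')
  haveI : IsScalarTower P B' N' := IsScalarTower.of_algebraMap_smul fun _ _ => rfl
  letI : Module P₀ M' := Module.compHom M' (algebraMap P₀ B')
  haveI : IsScalarTower P₀ B' M' := IsScalarTower.of_algebraMap_smul fun _ _ => rfl
  letI : Module P₀ N' := Module.compHom N' (algebraMap P₀ B')
  haveI : IsScalarTower P₀ B' N' := IsScalarTower.of_algebraMap_smul fun _ _ => rfl
  haveI : IsScalarTower P₀ B₀ M' := IsScalarTower.of_algebraMap_smul fun p x => by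
    rw [← algebraMap_smul B' (algebraMap P₀ B₀ p) x, ← IsScalarTower.algebraMap_apply, algebraMap_smul]
  haveI : IsScalarTower P₀ B₀ N' := IsScalarTower.of_algebraMap_smul fun p x => by
    rw [← algebraMap_smul B' (algebraMap P₀ B₀ p) x, ← IsScalarTower.algebraMap_apply, algebraMap_smul]
  haveI : IsScalarTower P₀ P M' := IsScalarTower.of_algebraMap_smul fun p x => by
    rw [← algebraMap_smul B' (algebraMap P₀ P p) x, ← IsScalarTower.algebraMap_apply, algebraMap_smul]
  haveI : IsScalarTower P₀ P N' := IsScalarTower.of_algebraMap_smul fun p x => by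
    rw [← algebraMap_smul B' (algebraMap P₀ P p) x, ← IsScalarTower.algebraMap_apply, algebraMap_smul]
  haveI : IsScalarTower R' P N' := IsScalarTower.of_algebraMap_smul fun r x => by
    rw [← algebraMap_smul B' (algebraMap R' P r) x, ← IsScalarTower.algebraMap_apply, algebraMap_smul]
  letI : Module U₀ M' := Module.compHom M' (algebraMap U₀ P₀)
  haveI : IsScalarTower U₀ P₀ M' := IsScalarTower.of_algebraMap_smul fun _ _ => rfl
  letI : Module U₀ N' := Module.compHom N' (algebraMap U₀ P₀)
  haveI : IsScalarTower U₀ P₀ N' := IsScalarTower.of_algebraMap_smul fun _ _ => rfl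
  haveI : IsScalarTower U₀ P₀ P := IsScalarTower.of_algebraMap_eq fun a => by
    show MvPolynomial.map (algebraMap Z R') a = MvPolynomial.map (algebraMap R₀ R') (MvPolynomial.map (algebraMap Z R₀) a)
    rw [MvPolynomial.map_map, ← IsScalarTower.algebraMap_eq]
  haveI : IsScalarTower U₀ P M' := IsScalarTower.of_algebraMap_smul fun a x => by
    rw [IsScalarTower.algebraMap_apply U₀ P₀ P, algebraMap_smul, algebraMap_smul]
  haveI : IsScalarTower U₀ P N' := IsScalarTower.of_algebraMap_smul fun a x => by
    rw [IsScalarTower.algebraMap_apply U₀ P₀ P, algebraMap_smul, algebraMap_smul]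
  have hbM : IsBaseChange P ((gM'.restrictScalars P₀).restrictScalars U₀ ∘ₗ gM) :=
    hM.comp (Groth.L20.isBaseChange_restrictScalars (R := P₀) (S := B₀) (R' := P) (S' := B') hM')
  have hbN : IsBaseChange P ((gN'.restrictScalars P₀).restrictScalars U₀ ∘ₗ gN) :=
    hN.comp (Groth.L20.isBaseChange_restrictScalars (R := P₀) (S := B₀) (R' := P) (S' := B') hN')
  have hnat : ∀ z, u'.restrictScalars P (hbM.equiv z) = hbN.equiv (u₀.baseChange P z) := by
    intro z
    induction z using TensorProduct.induction_on with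
    | zero => simp
    | tmul a m =>
      rw [LinearMap.baseChange_tmul, hbM.equiv_tmul, hbN.equiv_tmul, map_smul]
      show a • u' (gM' (gM m)) = a • gN' (gN (u₀ m))
      rw [hc, hc₀]
    | add x y hx hy => simp only [map_add, hx, hy]
  rw [← injFlatAt_iff_of_surjective (R := R') hsP u' q']
  constructor
  · exact fun h => injFlatAt_congr (u'.restrictScalars P) (u₀.baseChange P) hbM.equiv.symm hbN.equiv.symm
      (fun x => hbN.equiv.injective (by rw [← hnat, hbM.equiv.apply_symm_apply, hbN.equiv.apply_symm_apply])) _ h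
  · exact fun h => injFlatAt_congr (u₀.baseChange P) (u'.restrictScalars P) hbM.equiv hbN.equiv hnat _ h

end Change

end Groth.L02.InjFlat
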