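import Groth.Agent.L07.FlatStage
import Groth.Agent.L20.FlatAtBaseChange
import Groth.Agent.L05.Glue.FlatTorsion
import Mathlib.RingTheory.TensorProduct.IsBaseChangePi
import Mathlib.RingTheory.TensorProduct.MvPolynomial
import Mathlib.RingTheory.Polynomial.Basic

/-!
The kernel of a surjection of finitely presented modules onto a module flat over the base is finitely
presented.
-/

set_option autoImplicit false
set_option linter.style.haveILetI false
set_option maxSynthPendingDepth 3

universe u

open scoped TensorProduct
open MvPolynomial Groth.L07.FlatDescent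

namespace Groth.L02.InjFlat

attribute [local instance] MvPolynomial.algebraMvPolynomial in
set_option maxHeartbeats 800000 in
/-- Over a polynomial algebra, the relations of a presentation of a flat module form a finite module. -/
theorem fg_ker_of_flat_poly {A : Type u} [CommRing A] {d m n : ℕ}
    (φ : (Fin m → MvPolynomial (Fin d) A) →ₗ[MvPolynomial (Fin d) A] (Fin n → MvPolynomial (Fin d) A))
    [Module.Flat A ((Fin n → MvPolynomial (Fin d) A) ⧸ LinearMap.range φ)] : (LinearMap.ker φ).FG := by
  classical
  let v : Fin m → (Fin n → MvPolynomial (Fin d) A) := fun j => φ (Pi.single j 1)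
  have hφv : φ = Fintype.linearCombination (MvPolynomial (Fin d) A) v := by
    refine LinearMap.pi_ext' fun j => LinearMap.ext_ring ?_
    show φ (Pi.single j 1) = Fintype.linearCombination (MvPolynomial (Fin d) A) v (Pi.single j 1)
    rw [Fintype.linearCombination_apply_single, one_smul]
  -- a Noetherian ring of coefficients
  let W : Finset A := Finset.univ.biUnion fun j : Fin m => Finset.univ.biUnion fun i => (v j i).coeffs
  let R := Algebra.adjoin ℤ (W : Set A)
  haveI : IsNoetherianRing R := by
    haveI : Algebra.FiniteType ℤ R := R.fg_iff_finiteType.mp ⟨W, rfl⟩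
    exact Algebra.FiniteType.isNoetherianRing ℤ R
  have hlift : ∀ j, ∃ z : F d n R, ψ A z = v j := by
    intro j
    have : ∀ i, v j i ∈ Set.range (MvPolynomial.map (algebraMap R A)) := fun i => by
      rw [MvPolynomial.mem_range_map_iff_coeffs_subset]
      intro c hc
      exact ⟨⟨c, Algebra.subset_adjoin (Finset.mem_biUnion.mpr ⟨j, Finset.mem_univ _,
        Finset.mem_biUnion.mpr ⟨i, Finset.mem_univ _, hc⟩⟩)⟩, rfl⟩
    choose z hz using this
    exact ⟨z, funext hz⟩
  choose z hz using hlift
  let K : Submodule (MvPolynomial (Fin d) R) (F d n R) := Submodule.span _ (Set.range z)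
  have hKP : ∀ (C : Type u) [CommRing C] [Algebra R C],
      KP (C := C) K = LinearMap.range (Fintype.linearCombination (MvPolynomial (Fin d) C) fun j => ψ C (z j)) := by
    intro C _ _
    rw [Fintype.range_linearCombination]
    apply le_antisymm
    · intro y hy
      refine (Submodule.span_le (R := C)
        (p := (Submodule.span (MvPolynomial (Fin d) C) (Set.range fun j => ψ C (z j))).restrictScalars C)).mpr ?_ hy
      rintro _ ⟨k, hk, rfl⟩
      refine Submodule.span_induction (p := fun k _ => ψ C k ∈ Submodule.span (MvPolynomial (Fin d) C) (Set.range fun j => ψ C (z j)))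
        ?_ (by simp) ?_ ?_ hk
      · rintro _ ⟨j, rfl⟩; exact Submodule.subset_span ⟨j, rfl⟩
      · intro a b _ _ ha hb; rw [map_add]; exact add_mem ha hb
      · intro c a _ ha; rw [ψ_poly_smul]; exact Submodule.smul_mem _ _ ha
    · rw [Submodule.span_le]
      rintro _ ⟨j, rfl⟩
      exact ψ_mem K (Submodule.subset_span ⟨j, rfl⟩)
  have hrange : LinearMap.range φ = KP (C := A) K := by
    rw [hKP A, hφv]
    congr 2
    exact funext fun j => (hz j).symm
  haveI : Module.Flat A (MC A K) := by
    let e' : MC A K ≃ₗ[A] (F d n A ⧸ KP (C := A) K) :=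
      Submodule.quotEquivOfEq _ _ rfl ≪≫ₗ Submodule.Quotient.restrictScalarsEquiv A (KP (C := A) K)
    exact Module.Flat.of_linearEquiv (e' ≪≫ₗ (Submodule.quotEquivOfEq _ _ hrange.symm).restrictScalars A)
  obtain ⟨B, hB, hflat⟩ := exists_fg_stage K A
  haveI := hflat
  haveI : Algebra.FiniteType R B := B.fg_iff_finiteType.mp hB
  haveI : IsNoetherianRing B := Algebra.FiniteType.isNoetherianRing R B
  let PB := MvPolynomial (Fin d) B
  let φB : (Fin m → PB) →ₗ[PB] (Fin n → PB) := Fintype.linearCombination PB fun j => ψ B (z j)
  haveI : Module.Flat B ((Fin n → PB) ⧸ LinearMap.range φB) := by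
    rw [← hKP B]
    let e' : MC B K ≃ₗ[B] (F d n B ⧸ KP (C := B) K) :=
      Submodule.quotEquivOfEq _ _ rfl ≪≫ₗ Submodule.Quotient.restrictScalarsEquiv B (KP (C := B) K)
    exact Module.Flat.of_linearEquiv e'.symm
  obtain ⟨G, hG⟩ := (IsNoetherian.noetherian (LinearMap.ker φB) : (LinearMap.ker φB).FG)
  -- scalar extension
  let jm : (Fin m → PB) →ₗ[PB] (Fin m → MvPolynomial (Fin d) A) :=
    (Algebra.linearMap PB (MvPolynomial (Fin d) A)).compLeft (Fin m)
  let jn : (Fin n → PB) →ₗ[PB] (Fin n → MvPolynomial (Fin d) A) :=
    (Algebra.linearMap PB (MvPolynomial (Fin d) A)).compLeft (Fin n)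
  have hc : ∀ x, φ (jm x) = jn (φB x) := by
    intro x
    rw [hφv]
    funext k
    show Fintype.linearCombination (MvPolynomial (Fin d) A) v (jm x) k = algebraMap PB _ (φB x k)
    simp only [φB, Fintype.linearCombination_apply, Finset.sum_apply, Pi.smul_apply, smul_eq_mul, map_sum, map_mul]
    refine Finset.sum_congr rfl fun i _ => congrArg₂ (· * ·) rfl ?_
    rw [← hz i]
    show MvPolynomial.map (algebraMap R A) (z i k) = MvPolynomial.map (algebraMap B A) (MvPolynomial.map (algebraMap R B) (z i k))
    rw [MvPolynomial.map_map, ← IsScalarTower.algebraMap_eq]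
  haveI : Algebra.IsPushout B A PB (MvPolynomial (Fin d) A) := inferInstance
  haveI : Algebra.IsPushout B PB A (MvPolynomial (Fin d) A) := .symm inferInstance
  have hm : IsBaseChange A (jm.restrictScalars B) := Groth.L20.isBaseChange_restrictScalars
    ((IsBaseChange.linearMap PB (MvPolynomial (Fin d) A)).finitePow (Fin m))
  have hn : IsBaseChange A (jn.restrictScalars B) := Groth.L20.isBaseChange_restrictScalars
    ((IsBaseChange.linearMap PB (MvPolynomial (Fin d) A)).finitePow (Fin n))
  have hnat : ∀ w : A ⊗[B] (Fin m → PB), φ (hm.equiv w) = hn.equiv ((φB.restrictScalars B).lTensor A w) := by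
    intro w
    induction w using TensorProduct.induction_on with
    | zero => simp
    | tmul a x =>
      rw [hm.equiv_tmul, LinearMap.lTensor_tmul, hn.equiv_tmul, LinearMap.map_smul_of_tower]
      exact congrArg (a • ·) (hc x)
    | add a b ha hb => simp only [map_add, ha, hb]
  let rB := (φB.restrictScalars B).rangeRestrict
  have hker : LinearMap.ker φ = Submodule.span (MvPolynomial (Fin d) A) (jm '' (G : Set (Fin m → PB))) := by
    apply le_antisymm
    · intro w hw
      obtain ⟨w, rfl⟩ := hm.equiv.surjective w
      rw [LinearMap.mem_ker, hnat, LinearEquiv.map_eq_zero_iff] at hw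
      have hfac : (φB.restrictScalars B) = (LinearMap.range (φB.restrictScalars B)).subtype ∘ₗ rB := rfl
      rw [hfac, LinearMap.lTensor_comp, LinearMap.comp_apply] at hw
      have hinj : Function.Injective ((LinearMap.range (φB.restrictScalars B)).subtype.lTensor A) :=
        haveI : Module.Flat B ((Fin n → PB) ⧸ LinearMap.range (φB.restrictScalars B)) :=
          Module.Flat.of_linearEquiv (Submodule.quotEquivOfEq _ _ (LinearMap.range_restrictScalars (R := B) φB) ≪≫ₗ
            Submodule.Quotient.restrictScalarsEquiv B (LinearMap.range φB))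
        Groth.L05.FlatTorsion.lTensor_injective_of_flat_coker _ (Submodule.mkQ _) (Submodule.injective_subtype _)
          (LinearMap.exact_subtype_mkQ _) (Submodule.mkQ_surjective _) A
      have h0 : rB.lTensor A w = 0 := hinj (by rw [hw, map_zero])
      obtain ⟨t, rfl⟩ := (lTensor_exact A (LinearMap.exact_subtype_ker_map rB) (LinearMap.surjective_rangeRestrict (φB.restrictScalars B)) w).mp h0
      clear hw h0
      induction t using TensorProduct.induction_on with
      | zero => simp
      | tmul a x =>
        rw [LinearMap.lTensor_tmul, hm.equiv_tmul]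
        refine Submodule.smul_of_tower_mem _ a ?_
        have hx : (x : Fin m → PB) ∈ LinearMap.ker φB := congrArg Subtype.val x.2
        rw [← hG] at hx
        show jm (x : Fin m → PB) ∈ _
        refine (Submodule.span_le (p := (Submodule.span (MvPolynomial (Fin d) A) (jm '' (G : Set (Fin m → PB)))).restrictScalars PB |>.comap jm)).mpr ?_ hx
        exact fun g hg => Submodule.subset_span ⟨g, hg, rfl⟩
      | add a b ha hb => simp only [map_add]; exact add_mem ha hb
    · rw [Submodule.span_le]
      rintro _ ⟨g, hg, rfl⟩
      show φ (jm g) = 0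
      rw [hc, show φB g = 0 from (hG ▸ Submodule.subset_span hg : g ∈ LinearMap.ker φB), map_zero]
  rw [hker]
  exact ⟨G.image jm, by rw [Finset.coe_image]⟩

/-- Finite presentation descends along a surjection of rings. -/
theorem finitePresentation_of_surjective_scalar {P B M : Type u} [CommRing P] [CommRing B] [Algebra P B]
    (hs : Function.Surjective (algebraMap P B)) [AddCommGroup M] [Module P M] [Module B M]
    [IsScalarTower P B M] [Module.FinitePresentation P M] : Module.FinitePresentation B M := by
  obtain ⟨k, p, hp⟩ := Module.Finite.exists_fin' P M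
  let pB : (Fin k → B) →ₗ[B] M := Fintype.linearCombination B fun i => p (Pi.single i 1)
  let j : (Fin k → P) →ₗ[P] (Fin k → B) := (Algebra.linearMap P B).compLeft (Fin k)
  have hj : Function.Surjective j := fun y => ⟨fun i => (hs (y i)).choose, funext fun i => (hs (y i)).choose_spec⟩
  have hpj : ∀ x, pB (j x) = p x := by
    intro x
    show ((pB.restrictScalars P) ∘ₗ j) x = p x
    congr 1
    refine LinearMap.pi_ext' fun i => LinearMap.ext_ring ?_
    show pB (j (Pi.single i 1)) = p (Pi.single i 1)
    have : j (Pi.single i 1) = Pi.single i 1 := by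
      funext k
      show algebraMap P B ((Pi.single i 1 : Fin _ → P) k) = (Pi.single i 1 : Fin _ → B) k
      by_cases h : k = i
      · subst h; simp
      · simp [Pi.single_eq_of_ne h]
    rw [this, Fintype.linearCombination_apply_single, one_smul]
  obtain ⟨G, hG⟩ := Module.FinitePresentation.fg_ker p hp
  classical
  refine Module.finitePresentation_of_surjective pB (fun y => let ⟨x, hx⟩ := hp y; ⟨j x, (hpj x).trans hx⟩)
    ⟨G.image j, le_antisymm ?_ ?_⟩
  · rw [Submodule.span_le, Finset.coe_image]
    rintro _ ⟨g, hg, rfl⟩
    show pB (j g) = 0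
    rw [hpj]
    exact (hG ▸ Submodule.subset_span hg : g ∈ LinearMap.ker p)
  · intro y hy
    obtain ⟨x, rfl⟩ := hj y
    have hx : x ∈ Submodule.span P (G : Set (Fin k → P)) := by
      rw [hG, LinearMap.mem_ker, ← hpj]; exact hy
    refine (Submodule.span_le (p := ((Submodule.span B ((G.image j : Finset (Fin k → B)) : Set (Fin k → B))).restrictScalars P).comap j)).mpr ?_ hx
    intro g hg
    exact Submodule.subset_span (Finset.mem_image_of_mem j hg)

set_option maxHeartbeats 400000 in
/-- The kernel of a surjection onto a flat finitely presented module is finitely presented. -/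
theorem finitePresentation_ker_of_flat {A B M N : Type u} [CommRing A] [CommRing B] [Algebra A B]
    [Algebra.FinitePresentation A B]
    [AddCommGroup M] [Module B M] [Module.FinitePresentation B M]
    [AddCommGroup N] [Module B N] [Module A N] [IsScalarTower A B N] [Module.FinitePresentation B N]
    [Module.Flat A N] (p : M →ₗ[B] N) (hp : Function.Surjective p) :
    Module.FinitePresentation B (LinearMap.ker p) := by
  classical
  obtain ⟨d, π, hπ, hker⟩ := Algebra.FinitePresentation.out (R := A) (A := B)
  let P := MvPolynomial (Fin d) A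
  letI := π.toRingHom.toAlgebra
  haveI : Module.FinitePresentation P B := Module.finitePresentation_of_surjective (Algebra.linearMap P B) hπ hker
  letI : Module P M := Module.compHom M π.toRingHom
  haveI : IsScalarTower P B M := IsScalarTower.of_algebraMap_smul fun _ _ => rfl
  letI : Module P N := Module.compHom N π.toRingHom
  haveI : IsScalarTower P B N := IsScalarTower.of_algebraMap_smul fun _ _ => rfl
  haveI : IsScalarTower A P N := IsScalarTower.of_algebraMap_smul fun a x => by
    show π (algebraMap A P a) • x = a • x
    rw [π.commutes, algebraMap_smul]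
  haveI : Module.FinitePresentation P M := Module.FinitePresentation.trans P M B
  haveI : Module.FinitePresentation P N := Module.FinitePresentation.trans P N B
  obtain ⟨n, p₀, hp₀⟩ := Module.Finite.exists_fin' P M
  let q := (p.restrictScalars P) ∘ₗ p₀
  have hq : Function.Surjective q := hp.comp hp₀
  obtain ⟨G, hG⟩ := Module.FinitePresentation.fg_ker q hq
  let φ : (Fin G.card → P) →ₗ[P] (Fin n → P) :=
    Fintype.linearCombination P fun i => ((G.equivFin.symm i : G) : Fin n → P)
  have hφ : LinearMap.range φ = LinearMap.ker q := by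
    rw [Fintype.range_linearCombination, ← hG]
    congr 1
    ext y
    exact ⟨fun ⟨i, hi⟩ => hi ▸ (G.equivFin.symm i).2, fun hy => ⟨G.equivFin ⟨y, hy⟩, by simp⟩⟩
  haveI : Module.Flat A ((Fin n → P) ⧸ LinearMap.range φ) :=
    Module.Flat.of_linearEquiv ((Submodule.quotEquivOfEq _ _ hφ ≪≫ₗ q.quotKerEquivOfSurjective hq).restrictScalars A)
  haveI : Module.FinitePresentation P (LinearMap.range φ) :=
    Module.finitePresentation_of_surjective φ.rangeRestrict φ.surjective_rangeRestrict
      (by rw [LinearMap.ker_rangeRestrict]; exact fg_ker_of_flat_poly φ)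
  haveI : Module.FinitePresentation P (LinearMap.ker q) :=
    Module.FinitePresentation.of_equiv (LinearEquiv.ofEq _ _ hφ)
  let r : LinearMap.ker q →ₗ[P] LinearMap.ker (p.restrictScalars P) := p₀.restrict fun _ hx => hx
  have hr : Function.Surjective r := by
    rintro ⟨y, hy⟩
    obtain ⟨x, rfl⟩ := hp₀ y
    exact ⟨⟨x, hy⟩, rfl⟩
  haveI : Module.FinitePresentation P (LinearMap.ker (p.restrictScalars P)) := by
    refine Module.finitePresentation_of_surjective r hr (Submodule.fg_of_fg_map_injective _ (Submodule.injective_subtype _) ?_)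
    have : (LinearMap.ker r).map (LinearMap.ker q).subtype = LinearMap.ker p₀ := by
      ext x
      constructor
      · rintro ⟨y, hy, rfl⟩
        exact congrArg Subtype.val hy
      · intro hx
        exact ⟨⟨x, show p (p₀ x) = 0 by rw [show p₀ x = 0 from hx, map_zero]⟩, Subtype.ext hx, rfl⟩
    rw [this]
    exact Module.FinitePresentation.fg_ker p₀ hp₀
  haveI : Module.FinitePresentation P (LinearMap.ker p) :=
    Module.FinitePresentation.of_equiv ({ Equiv.refl _ with map_add' := fun _ _ => rfl, map_smul' := fun _ _ => rfl } :
      LinearMap.ker (p.restrictScalars P) ≃ₗ[P] LinearMap.ker p)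
  exact finitePresentation_of_surjective_scalar (P := P) hπ

end Groth.L02.InjFlat
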