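import Groth.Agent.L02.InjFlat.BaseChange
import Groth.Agent.L20.FibreDescent
import Mathlib.RingTheory.TensorProduct.DirectLimitFG

/-!
Injectivity with flat cokernel at a prime descends to a finitely generated stage.
-/

set_option autoImplicit false
set_option linter.style.haveILetI false
set_option maxSynthPendingDepth 3

universe u

open scoped TensorProduct
open TensorProduct LinearMap

namespace Groth.L02.InjFlat

section Mu

variable {U₀ W V M₀ M' : Type u} [CommRing U₀] [CommRing W] [CommRing V] [Algebra U₀ W] [Algebra U₀ V]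
  [AddCommGroup M₀] [Module U₀ M₀] [AddCommGroup M'] [Module U₀ M'] [Module V M'] [IsScalarTower U₀ V M']

/-- The map induced by a map of algebras and a map of modules. -/
noncomputable def mu (ι : W →ₐ[U₀] V) (g : M₀ →ₗ[U₀] M') : W ⊗[U₀] M₀ →ₗ[U₀] M' :=
  (g.liftBaseChange V).restrictScalars U₀ ∘ₗ ι.toLinearMap.rTensor M₀

theorem mu_tmul (ι : W →ₐ[U₀] V) (g : M₀ →ₗ[U₀] M') (a : W) (m : M₀) : mu ι g (a ⊗ₜ m) = ι a • g m := by
  simp [mu]

theorem mu_smul (ι : W →ₐ[U₀] V) (g : M₀ →ₗ[U₀] M') (a : W) (z : W ⊗[U₀] M₀) :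
    mu ι g (a • z) = ι a • mu ι g z := by
  induction z using TensorProduct.induction_on with
  | zero => simp
  | tmul b m => rw [TensorProduct.smul_tmul', mu_tmul, mu_tmul, smul_eq_mul, map_mul, mul_smul]
  | add x y hx hy => simp only [smul_add, map_add, hx, hy]

end Mu

variable {R₀ U₀ : Type u} [CommRing R₀] [CommRing U₀] [Algebra R₀ U₀]

attribute [local instance] Algebra.TensorProduct.rightAlgebra in
/-- The map from a stage. -/
noncomputable def stageHom {C V : Type u} [CommRing C] [Algebra R₀ C] [CommRing V] [Algebra R₀ V] [Algebra U₀ V]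
    [IsScalarTower R₀ U₀ V] (φ : C →ₐ[R₀] V) : (C ⊗[R₀] U₀) →ₐ[U₀] V :=
  { (Algebra.TensorProduct.lift φ (IsScalarTower.toAlgHom R₀ U₀ V) fun _ _ => Commute.all _ _).toRingHom with
    commutes' := fun a => by
      show Algebra.TensorProduct.lift φ (IsScalarTower.toAlgHom R₀ U₀ V) _ ((1 : C) ⊗ₜ[R₀] a) = _
      simp }

theorem stageHom_tmul {C V : Type u} [CommRing C] [Algebra R₀ C] [CommRing V] [Algebra R₀ V] [Algebra U₀ V]
    [IsScalarTower R₀ U₀ V] (φ : C →ₐ[R₀] V) (c : C) (a : U₀) :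
    stageHom φ (c ⊗ₜ[R₀] a) = φ c * algebraMap U₀ V a :=
  Algebra.TensorProduct.lift_tmul φ (IsScalarTower.toAlgHom R₀ U₀ V) (fun _ _ => Commute.all _ _) c a

attribute [local instance] Algebra.TensorProduct.rightAlgebra in
set_option maxHeartbeats 1600000 in
set_option synthInstance.maxHeartbeats 100000 in
/-- Descent to a finitely generated stage. -/
theorem exists_stage {A M₀ N₀ U M N : Type u} [IsNoetherianRing R₀] [Algebra.FiniteType R₀ U₀] [CommRing A]
    [Algebra R₀ A]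
    [AddCommGroup M₀] [Module U₀ M₀] [Module R₀ M₀] [IsScalarTower R₀ U₀ M₀] [Module.Finite U₀ M₀]
    [AddCommGroup N₀] [Module U₀ N₀] [Module R₀ N₀] [IsScalarTower R₀ U₀ N₀] [Module.Finite U₀ N₀]
    [CommRing U] [Algebra A U] [Algebra U₀ U] [Algebra R₀ U] [IsScalarTower R₀ A U] [IsScalarTower R₀ U₀ U]
    [Algebra.IsPushout R₀ A U₀ U]
    [AddCommGroup M] [Module U M] [Module A M] [IsScalarTower A U M] [Module U₀ M] [IsScalarTower U₀ U M]
    [Module R₀ M] [IsScalarTower R₀ A M] [IsScalarTower R₀ U₀ M]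
    [AddCommGroup N] [Module U N] [Module A N] [IsScalarTower A U N] [Module U₀ N] [IsScalarTower U₀ U N]
    [Module R₀ N] [IsScalarTower R₀ A N] [IsScalarTower R₀ U₀ N]
    (u₀ : M₀ →ₗ[U₀] N₀) {gM : M₀ →ₗ[U₀] M} (hM : IsBaseChange U gM) {gN : N₀ →ₗ[U₀] N} (hN : IsBaseChange U gN)
    (u : M →ₗ[U] N) (hc : ∀ x, u (gM x) = gN (u₀ x)) (q : Ideal U) [q.IsPrime] (h : InjFlatAt A u q) :
    ∃ B : Subalgebra R₀ A, B.FG ∧
      ∀ (U₁ : Type u) [CommRing U₁] [Algebra B U₁] [Algebra U₀ U₁] [Algebra R₀ U₁]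
        [IsScalarTower R₀ B U₁] [IsScalarTower R₀ U₀ U₁] [Algebra.IsPushout R₀ B U₀ U₁] [SMulCommClass U₀ B U₁]
        [IsScalarTower B U₁ (U₁ ⊗[U₀] N₀)] (χ : U₁ →+* U) (_ : ∀ b : B, χ (algebraMap B U₁ b) = algebraMap A U b)
        (_ : ∀ a, χ (algebraMap U₀ U₁ a) = algebraMap U₀ U a),
        InjFlatAt B (u₀.baseChange U₁) (q.comap χ) := by
  classical
  haveI : IsScalarTower R₀ U N := IsScalarTower.of_algebraMap_smul fun r x => by
    rw [IsScalarTower.algebraMap_apply R₀ A U, algebraMap_smul, algebraMap_smul]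
  obtain ⟨gC, hgC⟩ := isBaseChange_coker u₀ hM hN u hc
  haveI := h.2
  obtain ⟨B₁, hB₁, hflat₁⟩ := Groth.L20.FibreCrit.exists_flat_stage_prime (R₀ := R₀) (A := A) gC hgC q.primeCompl
  haveI : Algebra.FiniteType R₀ B₁ := B₁.fg_iff_finiteType.mp hB₁
  haveI : IsNoetherianRing B₁ := Algebra.FiniteType.isNoetherianRing R₀ B₁
  let W₁ := B₁ ⊗[R₀] U₀
  haveI : Algebra.FiniteType B₁ W₁ := inferInstance
  haveI : IsNoetherianRing W₁ := Algebra.FiniteType.isNoetherianRing B₁ W₁
  let φA : ∀ C : Subalgebra R₀ A, C →ₐ[R₀] U := fun C => (IsScalarTower.toAlgHom R₀ A U).comp C.val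
  let χW : ∀ C : Subalgebra R₀ A, (C ⊗[R₀] U₀) →ₐ[U₀] U := fun C => stageHom (φA C)
  let u₁ : W₁ ⊗[U₀] M₀ →ₗ[W₁] W₁ ⊗[U₀] N₀ := u₀.baseChange W₁
  have hnat : ∀ z, u (mu (χW B₁) gM z) = mu (χW B₁) gN (u₁ z) := by
    intro z
    induction z using TensorProduct.induction_on with
    | zero => simp
    | tmul a m =>
      show u (mu (χW B₁) gM (a ⊗ₜ m)) = mu (χW B₁) gN (a ⊗ₜ u₀ m)
      rw [mu_tmul, mu_tmul, map_smul, hc]
    | add x y hx hy => simp only [map_add, hx, hy]
  obtain ⟨G, hG⟩ := (IsNoetherian.noetherian (LinearMap.ker u₁) : (LinearMap.ker u₁).FG)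
  -- each generator of the kernel dies at some stage
  let e := Algebra.IsPushout.equiv R₀ A U₀ U
  have he : ∀ (C : Subalgebra R₀ A) (a : C ⊗[R₀] U₀), e (C.val.toLinearMap.rTensor U₀ a) = χW C a := by
    intro C a
    induction a using TensorProduct.induction_on with
    | zero => simp
    | tmul c a =>
      rw [LinearMap.rTensor_tmul, show χW C (c ⊗ₜ[R₀] a) = _ from stageHom_tmul (φA C) c a]
      show e (C.val c ⊗ₜ[R₀] a) = _
      rw [Algebra.IsPushout.equiv_tmul]
      rfl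
    | add x y hx hy => simp only [map_add, hx, hy]
  have key : ∀ k ∈ G, ∃ B' : Subalgebra R₀ A, B'.FG ∧ ∃ hle : B₁ ≤ B', ∃ s : B' ⊗[R₀] U₀, χW B' s ∉ q ∧
      s • mu (stageHom ((Algebra.TensorProduct.includeLeft (R := R₀) (S := R₀) (A := B') (B := U₀)).comp
        (Subalgebra.inclusion hle))) (TensorProduct.mk U₀ (B' ⊗[R₀] U₀) M₀ 1) k = 0 := by
    intro k hk
    have hk0 : u₁ k = 0 := (hG ▸ Submodule.subset_span hk : k ∈ LinearMap.ker u₁)
    obtain ⟨s, hs, hsk⟩ := h.1 (mu (χW B₁) gM k) (by rw [hnat, hk0, map_zero])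
    obtain ⟨sA, hsA⟩ := e.surjective s
    obtain ⟨B₂, hB₂, s₂, hs₂⟩ := TensorProduct.Algebra.exists_of_fg sA
    have hs2 : χW B₂ s₂ = s := by rw [← he, hs₂, hsA]
    let B₃ := B₁ ⊔ B₂
    have hB₃ : B₃.FG := Subalgebra.FG.sup hB₁ hB₂
    let W₃ := B₃ ⊗[R₀] U₀
    let i13 : W₁ →ₐ[U₀] W₃ := stageHom ((Algebra.TensorProduct.includeLeft (R := R₀) (S := R₀) (A := B₃) (B := U₀)).comp
      (Subalgebra.inclusion le_sup_left))
    let s₃ : W₃ := (Subalgebra.inclusion (le_sup_right : B₂ ≤ B₃)).toLinearMap.rTensor U₀ s₂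
    have hs3 : χW B₃ s₃ = s := by
      rw [← he, ← LinearMap.rTensor_comp_apply,
        show B₃.val.toLinearMap ∘ₗ (Subalgebra.inclusion (le_sup_right : B₂ ≤ B₃)).toLinearMap = B₂.val.toLinearMap from rfl,
        hs₂, hsA]
    have hcomp : ∀ (C C' : Subalgebra R₀ A) (hCC : C ≤ C') (a : C ⊗[R₀] U₀),
        χW C' (stageHom ((Algebra.TensorProduct.includeLeft (R := R₀) (S := R₀) (A := C') (B := U₀)).comp
          (Subalgebra.inclusion hCC)) a) = χW C a := by
      intro C C' hCC a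
      induction a using TensorProduct.induction_on with
      | zero => simp
      | tmul c a =>
        rw [stageHom_tmul, map_mul, AlgHom.commutes]
        show χW C' (Subalgebra.inclusion hCC c ⊗ₜ[R₀] (1 : U₀)) * _ = _
        rw [show χW C' (Subalgebra.inclusion hCC c ⊗ₜ[R₀] (1 : U₀)) = _ from stageHom_tmul (φA C') _ _,
          show χW C (c ⊗ₜ[R₀] a) = _ from stageHom_tmul (φA C) c a, map_one, mul_one]
        rfl
      | add x y hx hy => simp only [map_add, hx, hy]
    let z₃ := s₃ • mu i13 (TensorProduct.mk U₀ W₃ M₀ 1) k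
    have hz₃ : mu (χW B₃) gM z₃ = 0 := by
      rw [mu_smul, hs3, show mu (χW B₃) gM (mu i13 (TensorProduct.mk U₀ W₃ M₀ 1) k) = mu (χW B₁) gM k from ?_, hsk]
      clear hsk hk0 hk
      induction k using TensorProduct.induction_on with
      | zero => simp
      | tmul a m =>
        rw [mu_tmul, mu_smul, TensorProduct.mk_apply, mu_tmul, map_one, one_smul, mu_tmul]
        exact congrArg (· • gM m) (hcomp B₁ B₃ le_sup_left a)
      | add x y hx hy => simp only [map_add, hx, hy]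
    -- zero descends
    have hbA : IsBaseChange A (gM.restrictScalars R₀) := by
      haveI : Algebra.IsPushout R₀ U₀ A U := .symm inferInstance
      exact Groth.L20.isBaseChange_restrictScalars hM
    letI : Module R₀ (W₃ ⊗[U₀] M₀) := TensorProduct.leftModule
    have hb₃ : IsBaseChange B₃ ((TensorProduct.mk U₀ W₃ M₀ 1).restrictScalars R₀) := by
      haveI : Algebra.IsPushout R₀ U₀ B₃ W₃ := inferInstance
      exact Groth.L20.isBaseChange_restrictScalars (TensorProduct.isBaseChange U₀ M₀ W₃)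
    have hμA : ∀ w, mu (χW B₃) gM (hb₃.equiv w) = hbA.equiv (B₃.val.toLinearMap.rTensor M₀ w) := by
      intro w
      induction w using TensorProduct.induction_on with
      | zero => simp
      | tmul c m =>
        rw [hb₃.equiv_tmul, LinearMap.rTensor_tmul, hbA.equiv_tmul, ← algebraMap_smul W₃ c, mu_smul]
        show χW B₃ (c ⊗ₜ[R₀] (1 : U₀)) • mu (χW B₃) gM ((1 : W₃) ⊗ₜ m) = _
        rw [mu_tmul, map_one, one_smul, show χW B₃ (c ⊗ₜ[R₀] (1 : U₀)) = _ from stageHom_tmul (φA B₃) c 1,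
          map_one, mul_one]
        exact algebraMap_smul U (c : A) (gM m)
      | add x y hx hy => simp only [map_add, hx, hy]
    obtain ⟨w, hw⟩ := hb₃.equiv.surjective z₃
    have hw0 : B₃.val.toLinearMap.rTensor M₀ w = B₃.val.toLinearMap.rTensor M₀ 0 := by
      apply hbA.equiv.injective
      rw [← hμA, hw, hz₃, map_zero, map_zero]
    obtain ⟨B', hle, hB', hzero⟩ := TensorProduct.Algebra.eq_of_fg_of_subtype_eq hB₃ hw0
    let W' := B' ⊗[R₀] U₀
    let i3 : W₃ →ₐ[U₀] W' := stageHom ((Algebra.TensorProduct.includeLeft (R := R₀) (S := R₀) (A := B') (B := U₀)).comp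
      (Subalgebra.inclusion hle))
    refine ⟨B', hB', le_sup_left.trans hle, i3 s₃, by rw [hcomp B₃ B' hle, hs3]; exact hs, ?_⟩
    letI : Module R₀ (W' ⊗[U₀] M₀) := TensorProduct.leftModule
    have hb' : IsBaseChange B' ((TensorProduct.mk U₀ W' M₀ 1).restrictScalars R₀) := by
      haveI : Algebra.IsPushout R₀ U₀ B' W' := inferInstance
      exact Groth.L20.isBaseChange_restrictScalars (TensorProduct.isBaseChange U₀ M₀ W')
    have hμ' : ∀ w, mu i3 (TensorProduct.mk U₀ W' M₀ 1) (hb₃.equiv w) =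
        hb'.equiv ((Subalgebra.inclusion hle).toLinearMap.rTensor M₀ w) := by
      intro w
      induction w using TensorProduct.induction_on with
      | zero => simp
      | tmul c m =>
        rw [hb₃.equiv_tmul, LinearMap.rTensor_tmul, hb'.equiv_tmul, ← algebraMap_smul W₃ c, mu_smul]
        show i3 (c ⊗ₜ[R₀] (1 : U₀)) • mu i3 _ ((1 : W₃) ⊗ₜ m) = _
        rw [mu_tmul, map_one, one_smul, show i3 (c ⊗ₜ[R₀] (1 : U₀)) = _ from stageHom_tmul _ c 1, map_one, mul_one]
        exact algebraMap_smul W' (Subalgebra.inclusion hle c) _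
      | add x y hx hy => simp only [map_add, hx, hy]
    have h0 : mu i3 (TensorProduct.mk U₀ W' M₀ 1) z₃ = 0 := by rw [← hw, hμ', hzero, map_zero, map_zero]
    rw [mu_smul] at h0
    convert h0 using 2
    clear h0 hw hz₃ hsk hk0 hk
    induction k using TensorProduct.induction_on with
    | zero => simp
    | tmul a m =>
      rw [mu_tmul, mu_tmul, mu_smul, TensorProduct.mk_apply, TensorProduct.mk_apply, mu_tmul, map_one, one_smul]
      congr 1
      induction a using TensorProduct.induction_on with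
      | zero => simp
      | tmul c a =>
        rw [stageHom_tmul, show i13 (c ⊗ₜ[R₀] a) = _ from stageHom_tmul _ c a, map_mul, AlgHom.commutes]
        show _ = i3 (Subalgebra.inclusion le_sup_left c ⊗ₜ[R₀] (1 : U₀)) * _
        rw [show i3 (Subalgebra.inclusion le_sup_left c ⊗ₜ[R₀] (1 : U₀)) = _ from stageHom_tmul _ _ _, map_one, mul_one]
        rfl
      | add x y hx hy => simp only [map_add, hx, hy]
    | add x y hx hy => simp only [map_add, hx, hy]
  choose! Bk hBk hle sk hsk hkill using key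
  let B : Subalgebra R₀ A := B₁ ⊔ G.sup Bk
  have hsup : ∀ S : Finset (W₁ ⊗[U₀] M₀), S ⊆ G → (S.sup Bk).FG := by
    intro S hS
    induction S using Finset.induction_on with
    | empty => rw [Finset.sup_empty]; exact Subalgebra.fg_bot
    | insert a S _ ih =>
      rw [Finset.sup_insert]
      exact Subalgebra.FG.sup (hBk a (hS (Finset.mem_insert_self a S))) (ih ((Finset.subset_insert a S).trans hS))
  refine ⟨B, Subalgebra.FG.sup hB₁ (hsup G subset_rfl), fun U₁ _ _ _ _ _ _ _ _ _ χ hχ hχ' => ?_⟩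
  let inB : ∀ C : Subalgebra R₀ A, C ≤ B → ((C ⊗[R₀] U₀) →ₐ[U₀] U₁) := fun C hC =>
    stageHom ((IsScalarTower.toAlgHom R₀ B U₁).comp (Subalgebra.inclusion hC))
  have hinB : ∀ (C : Subalgebra R₀ A) (hC : C ≤ B) (a : C ⊗[R₀] U₀), χ (inB C hC a) = χW C a := by
    intro C hC a
    induction a using TensorProduct.induction_on with
    | zero => simp
    | tmul c a =>
      rw [show inB C hC (c ⊗ₜ[R₀] a) = _ from stageHom_tmul _ c a, show χW C (c ⊗ₜ[R₀] a) = _ from stageHom_tmul (φA C) c a,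
        map_mul, hχ']
      exact congrArg (· * algebraMap U₀ U a) (hχ _)
    | add x y hx hy => simp only [map_add, hx, hy]
  let i1 := inB B₁ le_sup_left
  letI : Algebra W₁ U₁ := i1.toRingHom.toAlgebra
  letI : Algebra B₁ B := (Subalgebra.inclusion (le_sup_left : B₁ ≤ B)).toRingHom.toAlgebra
  haveI : IsScalarTower R₀ B₁ B := IsScalarTower.of_algebraMap_eq fun _ => rfl
  letI : Algebra B₁ U₁ := ((algebraMap B U₁).comp (algebraMap B₁ B)).toAlgebra
  haveI : IsScalarTower B₁ B U₁ := IsScalarTower.of_algebraMap_eq fun _ => rfl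
  haveI : IsScalarTower B₁ W₁ U₁ := IsScalarTower.of_algebraMap_eq fun b => by
    show _ = i1 (b ⊗ₜ[R₀] (1 : U₀))
    rw [show i1 (b ⊗ₜ[R₀] (1 : U₀)) = _ from stageHom_tmul _ b 1, map_one, mul_one]
    rfl
  haveI : IsScalarTower U₀ W₁ U₁ := IsScalarTower.of_algebraMap_eq fun a => (i1.commutes a).symm
  haveI : IsScalarTower R₀ B₁ U₁ := IsScalarTower.of_algebraMap_eq fun r => by
    show _ = algebraMap B U₁ (algebraMap B₁ B (algebraMap R₀ B₁ r))
    rw [← IsScalarTower.algebraMap_apply R₀ B₁ B, ← IsScalarTower.algebraMap_apply R₀ B U₁]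
  haveI : Algebra.IsPushout R₀ B₁ U₀ W₁ := inferInstance
  haveI : IsScalarTower R₀ W₁ U₁ := IsScalarTower.of_algebraMap_eq fun r => by
    rw [IsScalarTower.algebraMap_apply R₀ B₁ W₁, ← IsScalarTower.algebraMap_apply B₁ W₁ U₁,
      ← IsScalarTower.algebraMap_apply R₀ B₁ U₁]
  haveI : Algebra.IsPushout B₁ B W₁ U₁ :=
    (Algebra.IsPushout.comp_iff (R := R₀) (S := B₁) (R' := U₀) (S' := W₁) (T := B) (T' := U₁)).mp inferInstance
  haveI : Algebra.IsPushout B₁ W₁ B U₁ := .symm inferInstance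
  let gM₁ : W₁ ⊗[U₀] M₀ →ₗ[W₁] U₁ ⊗[U₀] M₀ :=
    { toFun := mu i1 (TensorProduct.mk U₀ U₁ M₀ 1)
      map_add' := map_add _
      map_smul' := fun a z => mu_smul _ _ a z }
  let gN₁ : W₁ ⊗[U₀] N₀ →ₗ[W₁] U₁ ⊗[U₀] N₀ :=
    { toFun := mu i1 (TensorProduct.mk U₀ U₁ N₀ 1)
      map_add' := map_add _
      map_smul' := fun a z => mu_smul _ _ a z }
  have hbc : ∀ (L : Type u) [AddCommGroup L] [Module U₀ L] (g : W₁ ⊗[U₀] L →ₗ[W₁] U₁ ⊗[U₀] L),
      (∀ m : L, g ((1 : W₁) ⊗ₜ m) = (1 : U₁) ⊗ₜ m) → IsBaseChange U₁ g := fun L _ _ g hg => by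
    refine IsBaseChange.of_comp (TensorProduct.isBaseChange U₀ L W₁) ?_
    convert TensorProduct.isBaseChange U₀ L U₁ using 1
    exact LinearMap.ext fun m => hg m
  have hgM₁ : IsBaseChange U₁ gM₁ := hbc M₀ gM₁ fun m => by
    show mu i1 _ ((1 : W₁) ⊗ₜ m) = _
    rw [mu_tmul, map_one, one_smul]; rfl
  have hgN₁ : IsBaseChange U₁ gN₁ := hbc N₀ gN₁ fun m => by
    show mu i1 _ ((1 : W₁) ⊗ₜ m) = _
    rw [mu_tmul, map_one, one_smul]; rfl
  have hc₁ : ∀ z, u₀.baseChange U₁ (gM₁ z) = gN₁ (u₁ z) := by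
    intro z
    induction z using TensorProduct.induction_on with
    | zero => simp
    | tmul a m =>
      show u₀.baseChange U₁ (mu i1 _ (a ⊗ₜ m)) = mu i1 _ (a ⊗ₜ u₀ m)
      rw [mu_tmul, mu_tmul, map_smul]
      rfl
    | add x y hx hy => simp only [map_add, hx, hy]
  haveI : IsScalarTower B U₁ (U₁ ⊗[U₀] M₀) := IsScalarTower.of_algebraMap_smul fun b x => by
    induction x using TensorProduct.induction_on with
    | zero => simp
    | tmul a m => simp [TensorProduct.smul_tmul', Algebra.smul_def]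
    | add x y hx hy => simp only [smul_add, hx, hy]
  have hqc : (q.comap χ).comap (algebraMap W₁ U₁) = q.comap (χW B₁).toRingHom :=
    Ideal.ext fun a => by
      show χ (i1 a) ∈ q ↔ χW B₁ a ∈ q
      rw [hinB]
  haveI : (q.comap (χW B₁).toRingHom).IsPrime := Ideal.IsPrime.comap _
  letI : Module R₀ (W₁ ⊗[U₀] N₀) := TensorProduct.leftModule
  -- the cokernel at the first stage
  have hflat : Module.Flat B₁ (LocalizedModule (q.comap (χW B₁).toRingHom).primeCompl
      ((W₁ ⊗[U₀] N₀) ⧸ LinearMap.range u₁)) := by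
    obtain ⟨g₁, hg₁⟩ := isBaseChange_coker u₀ (TensorProduct.isBaseChange U₀ M₀ W₁)
      (TensorProduct.isBaseChange U₀ N₀ W₁) u₁ (fun x => rfl)
    exact hflat₁ W₁ _ g₁ hg₁ (χW B₁).toRingHom
      (fun b => by
        show χW B₁ (b ⊗ₜ[R₀] (1 : U₀)) = _
        rw [show χW B₁ (b ⊗ₜ[R₀] (1 : U₀)) = _ from stageHom_tmul (φA B₁) b 1, map_one, mul_one]
        rfl)
      (fun a => (χW B₁).commutes a)
  refine injFlatAt_of_torsion u₁ hgM₁ hgN₁ (u₀.baseChange U₁) hc₁ _ _ hqc hflat fun k hk => ?_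
  have hk' : k ∈ Submodule.span W₁ (G : Set (W₁ ⊗[U₀] M₀)) := hG.symm ▸ (show k ∈ LinearMap.ker u₁ from hk)
  clear hk
  induction hk' using Submodule.span_induction with
  | mem k hk =>
    have hC : Bk k ≤ B := le_sup_of_le_right (Finset.le_sup (f := Bk) hk)
    refine ⟨inB (Bk k) hC (sk k), fun hmem => hsk k hk (by rw [← hinB _ hC]; exact hmem), ?_⟩
    have h0 := congrArg (mu (inB (Bk k) hC) (TensorProduct.mk U₀ U₁ M₀ 1)) (hkill k hk)
    rw [mu_smul, map_zero] at h0
    convert h0 using 2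
    clear h0
    show mu i1 _ k = _
    have : ∀ z, mu i1 (TensorProduct.mk U₀ U₁ M₀ 1) z = mu (inB (Bk k) hC) (TensorProduct.mk U₀ U₁ M₀ 1)
        (mu (stageHom ((Algebra.TensorProduct.includeLeft (R := R₀) (S := R₀) (A := Bk k) (B := U₀)).comp
          (Subalgebra.inclusion (hle k hk)))) (TensorProduct.mk U₀ (Bk k ⊗[R₀] U₀) M₀ 1) z) := by
      intro z
      induction z using TensorProduct.induction_on with
      | zero => simp
      | tmul a m =>
        rw [mu_tmul, mu_tmul, mu_smul, TensorProduct.mk_apply, TensorProduct.mk_apply, mu_tmul, map_one, one_smul]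
        congr 1
        induction a using TensorProduct.induction_on with
        | zero => simp
        | tmul c a =>
          rw [show i1 (c ⊗ₜ[R₀] a) = _ from stageHom_tmul _ c a, stageHom_tmul, map_mul, AlgHom.commutes]
          show _ = inB (Bk k) hC (Subalgebra.inclusion (hle k hk) c ⊗ₜ[R₀] (1 : U₀)) * _
          rw [show inB (Bk k) hC (Subalgebra.inclusion (hle k hk) c ⊗ₜ[R₀] (1 : U₀)) = _ from stageHom_tmul _ _ _,
            map_one, mul_one]
          rfl
        | add x y hx hy => simp only [map_add, hx, hy]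
      | add x y hx hy => simp only [map_add, hx, hy]
    exact this k
  | zero => exact ⟨1, fun h => (inferInstance : (q.comap χ).IsPrime).ne_top ((Ideal.eq_top_iff_one _).mpr h), by simp⟩
  | add a b _ _ ha hb =>
    obtain ⟨s, hs, hsa⟩ := ha
    obtain ⟨s', hs', hsb⟩ := hb
    refine ⟨s * s', (q.comap χ).primeCompl.mul_mem hs hs', ?_⟩
    rw [map_add, smul_add, mul_comm, mul_smul, hsa, mul_comm, mul_smul, hsb, smul_zero, smul_zero, add_zero]
  | smul a y _ hy =>
    obtain ⟨s, hs, hsy⟩ := hy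
    exact ⟨s, hs, by rw [map_smul, smul_comm, hsy, smul_zero]⟩

end Groth.L02.InjFlat
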