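import Groth.Agent.L02.InjFlat.Change
import Groth.Agent.L02.InjFlat.Stage

/-!
The condition on the model over a polynomial ring, as a predicate on the ring of scalars.
-/

set_option autoImplicit false
set_option linter.style.haveILetI false
set_option maxSynthPendingDepth 3

universe u

open scoped TensorProduct
open MvPolynomial

namespace Groth.L02.InjFlat

attribute [local instance] MvPolynomial.algebraMvPolynomial

theorem tower_left {U₀ B U N : Type u} [CommRing U₀] [CommRing B] [CommRing U] [Algebra B U] [Algebra U₀ U]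
    [SMulCommClass U₀ B U] [AddCommGroup N] [Module U₀ N] : IsScalarTower B U (U ⊗[U₀] N) :=
  IsScalarTower.of_algebraMap_smul fun b x => by
    induction x using TensorProduct.induction_on with
    | zero => simp
    | tmul a m => simp [TensorProduct.smul_tmul', Algebra.smul_def]
    | add x y hx hy => simp only [smul_add, hx, hy]

variable {Z : Type u} [CommRing Z] {d : ℕ} {M₀ N₀ : Type u}
  [AddCommGroup M₀] [Module (MvPolynomial (Fin d) Z) M₀]
  [AddCommGroup N₀] [Module (MvPolynomial (Fin d) Z) N₀]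

/-- The model is injective with flat cokernel over `R` at the prime. -/
def ModelCond (R : Type u) [CommRing R] [Algebra Z R] (u₀ : M₀ →ₗ[MvPolynomial (Fin d) Z] N₀)
    (Q : Ideal (MvPolynomial (Fin d) R)) [Q.IsPrime] : Prop :=
  haveI : IsScalarTower R (MvPolynomial (Fin d) R) (MvPolynomial (Fin d) R ⊗[MvPolynomial (Fin d) Z] N₀) := tower_left
  InjFlatAt R (u₀.baseChange (MvPolynomial (Fin d) R)) Q

theorem modelCond_congr {R : Type u} [CommRing R] [Algebra Z R] (u₀ : M₀ →ₗ[MvPolynomial (Fin d) Z] N₀)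
    {Q Q' : Ideal (MvPolynomial (Fin d) R)} [Q.IsPrime] [Q'.IsPrime] (e : Q = Q') (h : ModelCond R u₀ Q) :
    ModelCond R u₀ Q' := by
  subst e; exact h

/-- Change of the ring of scalars. -/
theorem modelCond_baseChange (u₀ : M₀ →ₗ[MvPolynomial (Fin d) Z] N₀) {B R' : Type u} [CommRing B] [CommRing R']
    [Algebra Z B] [Algebra Z R'] (r : B →+* R') (hr : ∀ z, r (algebraMap Z B z) = algebraMap Z R' z)
    (q' : Ideal (MvPolynomial (Fin d) R')) [q'.IsPrime] (Q : Ideal (MvPolynomial (Fin d) B)) [Q.IsPrime]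
    (hQ : q'.comap (MvPolynomial.map r) = Q) (h : ModelCond B u₀ Q) : ModelCond R' u₀ q' := by
  letI := r.toAlgebra
  haveI : IsScalarTower Z B R' := IsScalarTower.of_algebraMap_eq fun z => (hr z).symm
  haveI : IsScalarTower B (MvPolynomial (Fin d) B) (MvPolynomial (Fin d) B ⊗[MvPolynomial (Fin d) Z] N₀) := tower_left
  haveI : IsScalarTower R' (MvPolynomial (Fin d) R') (MvPolynomial (Fin d) R' ⊗[MvPolynomial (Fin d) Z] N₀) := tower_left
  subst hQ
  exact canonical_baseChange u₀ q' h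

/-- Descent to a finitely generated stage. -/
theorem exists_modelCond_stage [IsNoetherianRing Z] [Module.Finite (MvPolynomial (Fin d) Z) M₀]
    [Module.Finite (MvPolynomial (Fin d) Z) N₀] (u₀ : M₀ →ₗ[MvPolynomial (Fin d) Z] N₀) {A : Type u} [CommRing A]
    [Algebra Z A] (Q : Ideal (MvPolynomial (Fin d) A)) [Q.IsPrime] (h : ModelCond A u₀ Q) :
    ∃ B : Subalgebra Z A, B.FG ∧ ModelCond B u₀ (Q.comap (MvPolynomial.map B.val.toRingHom)) := by
  let U₀ := MvPolynomial (Fin d) Z
  let U := MvPolynomial (Fin d) A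
  haveI : IsScalarTower A U (U ⊗[U₀] N₀) := tower_left
  haveI : IsScalarTower A U (U ⊗[U₀] M₀) := tower_left
  letI : Module Z M₀ := Module.compHom M₀ (algebraMap Z U₀)
  haveI : IsScalarTower Z U₀ M₀ := IsScalarTower.of_algebraMap_smul fun _ _ => rfl
  letI : Module Z N₀ := Module.compHom N₀ (algebraMap Z U₀)
  haveI : IsScalarTower Z U₀ N₀ := IsScalarTower.of_algebraMap_smul fun _ _ => rfl
  letI : Module Z (U ⊗[U₀] M₀) := TensorProduct.leftModule
  letI : Module Z (U ⊗[U₀] N₀) := TensorProduct.leftModule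
  haveI : Algebra.IsPushout Z A U₀ U := inferInstance
  obtain ⟨B, hB, hstage⟩ := exists_stage (R₀ := Z) (A := A) u₀ (TensorProduct.isBaseChange U₀ M₀ U)
    (TensorProduct.isBaseChange U₀ N₀ U) (u₀.baseChange U) (fun m => rfl) Q h
  haveI : Algebra.IsPushout Z B U₀ (MvPolynomial (Fin d) B) := inferInstance
  haveI : IsScalarTower B (MvPolynomial (Fin d) B) (MvPolynomial (Fin d) B ⊗[U₀] N₀) := tower_left
  exact ⟨B, hB, hstage (MvPolynomial (Fin d) B) (MvPolynomial.map B.val.toRingHom)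
    (fun b => MvPolynomial.map_C _ _) (fun a => by
      show MvPolynomial.map B.val.toRingHom (MvPolynomial.map (algebraMap Z B) a) = MvPolynomial.map (algebraMap Z A) a
      rw [MvPolynomial.map_map]
      rfl)⟩

/-- The condition on a piece is the condition on the model. -/
theorem change_modelCond {R₀ B₀ M N R' B' M' N' : Type u} [CommRing R₀] [Algebra Z R₀] [CommRing B₀] [Algebra R₀ B₀]
    [Algebra (MvPolynomial (Fin d) R₀) B₀] [IsScalarTower R₀ (MvPolynomial (Fin d) R₀) B₀]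
    (hs : Function.Surjective (algebraMap (MvPolynomial (Fin d) R₀) B₀))
    [AddCommGroup M] [Module B₀ M] [Module (MvPolynomial (Fin d) R₀) M] [IsScalarTower (MvPolynomial (Fin d) R₀) B₀ M]
    [AddCommGroup N] [Module B₀ N] [Module (MvPolynomial (Fin d) R₀) N] [IsScalarTower (MvPolynomial (Fin d) R₀) B₀ N]
    (u : M →ₗ[B₀] N) (u₀ : M₀ →ₗ[MvPolynomial (Fin d) Z] N₀)
    [Module (MvPolynomial (Fin d) Z) M] [IsScalarTower (MvPolynomial (Fin d) Z) (MvPolynomial (Fin d) R₀) M]
    [Module (MvPolynomial (Fin d) Z) N] [IsScalarTower (MvPolynomial (Fin d) Z) (MvPolynomial (Fin d) R₀) N]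
    {gM : M₀ →ₗ[MvPolynomial (Fin d) Z] M} (hM : IsBaseChange (MvPolynomial (Fin d) R₀) gM)
    {gN : N₀ →ₗ[MvPolynomial (Fin d) Z] N} (hN : IsBaseChange (MvPolynomial (Fin d) R₀) gN)
    (hc₀ : ∀ x, u (gM x) = gN (u₀ x))
    [CommRing R'] [Algebra R₀ R'] [Algebra Z R'] [IsScalarTower Z R₀ R'] [CommRing B'] [Algebra B₀ B'] [Algebra R' B']
    [Algebra R₀ B'] [IsScalarTower R₀ B₀ B'] [IsScalarTower R₀ R' B'] [Algebra.IsPushout R₀ B₀ R' B']
    (φ : MvPolynomial (Fin d) R' →+* B') (hC : ∀ r, φ (C r) = algebraMap R' B' r)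
    (hX : ∀ i, φ (X i) = algebraMap B₀ B' (algebraMap (MvPolynomial (Fin d) R₀) B₀ (X i)))
    [AddCommGroup M'] [Module B' M'] [Module B₀ M'] [IsScalarTower B₀ B' M']
    [AddCommGroup N'] [Module B' N'] [Module B₀ N'] [IsScalarTower B₀ B' N'] [Module R' N'] [IsScalarTower R' B' N']
    {gM' : M →ₗ[B₀] M'} (hM' : IsBaseChange B' gM') {gN' : N →ₗ[B₀] N'} (hN' : IsBaseChange B' gN')
    (u' : M' →ₗ[B'] N') (hc : ∀ x, u' (gM' x) = gN' (u x))
    (q' : Ideal B') [q'.IsPrime] (Q : Ideal (MvPolynomial (Fin d) R')) [Q.IsPrime] (hQ : q'.comap φ = Q) :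
    InjFlatAt R' u' q' ↔ ModelCond R' u₀ Q := by
  letI := φ.toAlgebra
  haveI : IsScalarTower R' (MvPolynomial (Fin d) R') B' := IsScalarTower.of_algebraMap_eq fun r => (hC r).symm
  haveI : IsScalarTower R' (MvPolynomial (Fin d) R') (MvPolynomial (Fin d) R' ⊗[MvPolynomial (Fin d) Z] N₀) := tower_left
  subst hQ
  exact change hs u u₀ hM hN hc₀ hX hM' hN' u' hc q'

end Groth.L02.InjFlat
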