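import Groth.Agent.L19.Limit.BaseChange
import Groth.Agent.L20.ModPullback
import Mathlib.AlgebraicGeometry.AffineTransitionLimit
import Mathlib.AlgebraicGeometry.Morphisms.FinitePresentation
import Mathlib.RingTheory.FinitePresentation

/-!
Affine pieces of a system with affine transition morphisms.
-/

set_option autoImplicit false
set_option linter.style.haveILetI false
set_option backward.isDefEq.respectTransparency.types false
set_option backward.isDefEq.respectTransparency false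
set_option backward.defeqAttrib.useBackward true

universe u

open CategoryTheory CategoryTheory.Limits AlgebraicGeometry TopologicalSpace

namespace Groth.L02.InjFlat

/-- The rings of an affine piece of a cartesian square form a pushout. -/
theorem affine_square {X S X' S' : Scheme.{u}} {f : X ⟶ S} {f' : X' ⟶ S'} {g' : X' ⟶ X} {g : S' ⟶ S}
    (hc : IsPullback g' f' f g) {W : S.Opens} {V : X.Opens} {W' : S'.Opens} (hW : IsAffineOpen W)
    (hV : IsAffineOpen V) (hW' : IsAffineOpen W') (eV : V ≤ f ⁻¹ᵁ W) (eW : W' ≤ g ⁻¹ᵁ W) :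
    IsAffineOpen (g' ⁻¹ᵁ V ⊓ f' ⁻¹ᵁ W') ∧
      IsPushout (f.appLE W V eV) (g.appLE W W' eW)
        (g'.appLE V (g' ⁻¹ᵁ V ⊓ f' ⁻¹ᵁ W') inf_le_left) (f'.appLE W' (g' ⁻¹ᵁ V ⊓ f' ⁻¹ᵁ W') inf_le_right) := by
  have hpb := Scheme.Hom.isPullback_resLE hc (UT := W') eW eV (UY := g' ⁻¹ᵁ V ⊓ f' ⁻¹ᵁ W') rfl
  haveI : IsAffine W.toScheme := hW
  haveI : IsAffine V.toScheme := hV
  haveI : IsAffine W'.toScheme := hW'
  refine ⟨IsAffine.of_isPullback hpb, ?_⟩
  refine (isPushout_appTop_of_isPullback hpb).of_iso W.topIso V.topIso W'.topIso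
    (g' ⁻¹ᵁ V ⊓ f' ⁻¹ᵁ W').topIso ?_ ?_ ?_ ?_ <;>
  simp only [Scheme.Hom.appTop, Scheme.Hom.resLE_app_top, Category.assoc, Iso.inv_hom_id, Category.comp_id]

variable {I : Type u} [SmallCategory I] [IsCofiltered I] (D : I ⥤ Scheme.{u}) (c : Cone D)
  [∀ (i j : I) (φ : i ⟶ j), IsAffineHom (D.map φ)] {i₀ : I} {Y₀ : Scheme.{u}} (g₀ : Y₀ ⟶ D.obj i₀)
  {Y : Scheme.{u}} {g : Y ⟶ c.pt} {qY : Y ⟶ Y₀}

/-- The morphism to a stage. -/
noncomputable def stageMor (hY : IsPullback qY g g₀ (c.π.app i₀)) (k : Over i₀) :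
    Y ⟶ pullback (D.map k.hom) g₀ :=
  pullback.lift (g ≫ c.π.app k.left) qY (by
    rw [Category.assoc, c.w k.hom]
    exact hY.w.symm)

theorem stageMor_snd (hY : IsPullback qY g g₀ (c.π.app i₀)) (k : Over i₀) :
    stageMor D c g₀ hY k ≫ pullback.snd (D.map k.hom) g₀ = qY :=
  pullback.lift_snd _ _ _

theorem stageMor_fst (hY : IsPullback qY g g₀ (c.π.app i₀)) (k : Over i₀) :
    stageMor D c g₀ hY k ≫ pullback.fst (D.map k.hom) g₀ = g ≫ c.π.app k.left :=
  pullback.lift_fst _ _ _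

/-- A finitely presented algebra mapping to the sections of the limit maps to those of some stage. -/
theorem exists_stage_hom (hc : IsLimit c) (hY : IsPullback qY g g₀ (c.π.app i₀)) {W₀ : Y₀.Opens}
    (hW₀ : IsAffineOpen W₀) {Z B : CommRingCat.{u}} (ζ : Z ⟶ Γ(Y₀, W₀)) (b : Z ⟶ B)
    (hb : b.hom.FinitePresentation) (χ : B ⟶ Γ(Y, qY ⁻¹ᵁ W₀)) (hχ : b ≫ χ = ζ ≫ qY.app W₀) :
    ∃ (k : Over i₀) (r : B ⟶ Γ(pullback (D.map k.hom) g₀, pullback.snd (D.map k.hom) g₀ ⁻¹ᵁ W₀)),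
      b ≫ r = ζ ≫ (pullback.snd (D.map k.hom) g₀).app W₀ ∧
      r ≫ (stageMor D c g₀ hY k).appLE (pullback.snd (D.map k.hom) g₀ ⁻¹ᵁ W₀) (qY ⁻¹ᵁ W₀)
        (by rw [← Scheme.Hom.comp_preimage, stageMor_snd]) = χ := by
  haveI : IsAffine W₀.toScheme := hW₀
  let gT : W₀.toScheme ⟶ D.obj i₀ := W₀.ι ≫ g₀
  have sq : IsPullback (qY ∣_ W₀) ((qY ⁻¹ᵁ W₀).ι ≫ g) gT (c.π.app i₀) :=
    (isPullback_morphismRestrict qY W₀).flip.flip.paste_vert hY
  let E := sq.flip.isoPullback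
  let f : Spec B ⟶ Spec Z := Spec.map b
  haveI : LocallyOfFinitePresentation f := (LocallyOfFinitePresentation.SpecMap_iff _).mpr hb
  let D' := Groth.L19.Limit.bcDiagram D gT
  let c' := Groth.L19.Limit.bcCone D c gT
  let t : D' ⟶ (Functor.const (Over i₀)).obj (Spec Z) :=
    { app := fun j => pullback.snd (D.map j.hom) gT ≫ W₀.toSpecΓ ≫ Spec.map ζ
      naturality := fun j l m => by
        simp [D', Groth.L19.Limit.bcDiagram] }
  haveI hT : ∀ {j l : Over i₀} (m : j ⟶ l), IsAffineHom (D'.map m) := fun m => inferInstance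
  haveI : ∀ j : Over i₀, IsAffineHom (pullback.snd (D.map j.hom) gT) := fun j =>
    MorphismProperty.pullback_snd _ _ inferInstance
  haveI : ∀ j, IsAffine (D'.obj j) := fun j => isAffine_of_isAffineHom (pullback.snd (D.map j.hom) gT)
  let a : c'.pt ⟶ Spec B := E.inv ≫ (qY ⁻¹ᵁ W₀).toSpecΓ ≫ Spec.map χ
  have hEsnd : ∀ (j : Over i₀), E.hom ≫ c'.π.app j ≫ pullback.snd (D.map j.hom) gT = qY ∣_ W₀ := by
    intro j
    simp [E, c', Groth.L19.Limit.bcCone]
  obtain ⟨k, gk, hgk, hgkf⟩ := Scheme.exists_π_app_comp_eq_of_locallyOfFinitePresentation D' t f c'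
    (Groth.L19.Limit.isLimitBcCone gT hc) a (by
      ext j : 2
      show c'.π.app j ≫ t.app j = (E.inv ≫ (qY ⁻¹ᵁ W₀).toSpecΓ ≫ Spec.map χ) ≫ Spec.map b
      rw [Category.assoc, Category.assoc, ← Spec.map_comp, hχ, Spec.map_comp,
        Scheme.Opens.toSpecΓ_naturality_assoc, ← hEsnd j, Category.assoc, Category.assoc, Iso.inv_hom_id_assoc])
  let pY := pullback.snd (D.map k.hom) g₀
  haveI : IsAffineHom pY := MorphismProperty.pullback_snd _ _ inferInstance
  have hWk : IsAffineOpen (pY ⁻¹ᵁ W₀) := hW₀.preimage pY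
  haveI : IsAffine (pY ⁻¹ᵁ W₀).toScheme := hWk
  let m : (pY ⁻¹ᵁ W₀).toScheme ⟶ pullback (D.map k.hom) gT :=
    pullback.lift ((pY ⁻¹ᵁ W₀).ι ≫ pullback.fst _ _) (pY ∣_ W₀) (by
      rw [Category.assoc, pullback.condition, ← Category.assoc, ← morphismRestrict_ι]
      exact (Category.assoc _ _ _))
  obtain ⟨r, hr⟩ := Spec.map_surjective (hWk.isoSpec.inv ≫ m ≫ gk)
  have hr' : (pY ⁻¹ᵁ W₀).toSpecΓ ≫ Spec.map r = m ≫ gk := by
    rw [hr, show (pY ⁻¹ᵁ W₀).toSpecΓ = hWk.isoSpec.hom from hWk.isoSpec_hom.symm, Iso.hom_inv_id_assoc]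
  refine ⟨k, r, ?_, ?_⟩
  · refine Spec.map_injective ((cancel_epi hWk.isoSpec.hom).mp ?_)
    rw [Spec.map_comp, Spec.map_comp, hWk.isoSpec_hom, reassoc_of% hr', Scheme.Opens.toSpecΓ_naturality_assoc]
    rw [hgkf]
    show m ≫ pullback.snd (D.map k.hom) gT ≫ _ = _
    rw [pullback.lift_snd_assoc]
  · haveI : IsAffineHom (c.π.app i₀) := isAffineHom_π_app D c hc i₀
    haveI : IsAffineHom qY := MorphismProperty.of_isPullback (P := @IsAffineHom) hY.flip inferInstance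
    have hWl : IsAffineOpen (qY ⁻¹ᵁ W₀) := hW₀.preimage qY
    refine Spec.map_injective ((cancel_epi hWl.isoSpec.hom).mp ?_)
    rw [Spec.map_comp, hWl.isoSpec_hom, Scheme.Opens.toSpecΓ_SpecMap_appLE_assoc, hr', ← Category.assoc _ m gk]
    have hfac : (stageMor D c g₀ hY k).resLE (pY ⁻¹ᵁ W₀) (qY ⁻¹ᵁ W₀)
        (by rw [← Scheme.Hom.comp_preimage, stageMor_snd]) ≫ m = E.hom ≫ c'.π.app k := by
      apply pullback.hom_ext
      · rw [Category.assoc, pullback.lift_fst, ← Category.assoc, Scheme.Hom.resLE_comp_ι, Category.assoc, stageMor_fst]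
        simp [E, c', Groth.L19.Limit.bcCone]
      · rw [Category.assoc, pullback.lift_snd, Category.assoc, hEsnd k, ← cancel_mono W₀.ι, Category.assoc,
          morphismRestrict_ι, ← Category.assoc, Scheme.Hom.resLE_comp_ι, Category.assoc, stageMor_snd, morphismRestrict_ι]
    rw [hfac, Category.assoc, hgk, Iso.hom_inv_id_assoc]

end Groth.L02.InjFlat
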