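import Groth.Agent.L02.InjFlat.Scheme
import Groth.Agent.L02.InjFlat.ModelCond
import Groth.Agent.L02.InjFlat.System
import Groth.Agent.L20.ModStalk

/-!
Injectivity with flat cokernel at a point descends along limits with affine transition morphisms.
-/

set_option autoImplicit false
set_option linter.style.haveILetI false
set_option maxSynthPendingDepth 3
set_option backward.isDefEq.respectTransparency.types false
set_option backward.isDefEq.respectTransparency false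

universe u

open CategoryTheory CategoryTheory.Limits AlgebraicGeometry TopologicalSpace MvPolynomial
open Groth.L16.AffineBC (pullRes isBaseChange_pull isQCoh_pullback)
open scoped TensorProduct

namespace Groth.L02.InjFlat

theorem cond_pullback_comp {A B C Y : Scheme.{u}} (v : A ⟶ B) (p : B ⟶ C) (q : A ⟶ C) (h : v ≫ p = q)
    (f : A ⟶ Y) {F' F : C.Modules} (w : F' ⟶ F) (x : A) :
    Cond f ((Scheme.Modules.pullback v).map ((Scheme.Modules.pullback p).map w)) x ↔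
      Cond f ((Scheme.Modules.pullback q).map w) x := by
  let e := Scheme.Modules.pullbackComp v p ≪≫ Scheme.Modules.pullbackCongr h
  exact ⟨cond_of_iso f _ _ (e.app F') (e.app F) (e.hom.naturality w) x,
    cond_of_iso f _ _ (e.app F').symm (e.app F).symm (e.inv.naturality w) x⟩

theorem appLE_congr_hom {A B : Scheme.{u}} {f g : A ⟶ B} (h : f = g) (U : B.Opens) (V : A.Opens) (e : V ≤ f ⁻¹ᵁ U) :
    f.appLE U V e = g.appLE U V (h ▸ e) := by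
  subst h; rfl

variable {X₀ Y₀ X' Y' : Scheme.{u}}

attribute [local instance] MvPolynomial.algebraMvPolynomial in
set_option maxHeartbeats 800000 in
/-- The condition on a piece over an affine open of the base, on the model. -/
theorem piece_iff {f₀ : X₀ ⟶ Y₀} {f' : X' ⟶ Y'} {p : X' ⟶ X₀} {s : Y' ⟶ Y₀} (sq : IsPullback p f' f₀ s)
    {F₀ G₀ : X₀.Modules} [Coh.IsQCoh F₀] [Coh.IsQCoh G₀] (h₀ : F₀ ⟶ G₀)
    {W₀ : Y₀.Opens} {V₀ : X₀.Opens} {W' : Y'.Opens} (hW₀ : IsAffineOpen W₀) (hV₀ : IsAffineOpen V₀)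
    (hW' : IsAffineOpen W') (eV : V₀ ≤ f₀ ⁻¹ᵁ W₀) (eW : W' ≤ s ⁻¹ᵁ W₀) {d : ℕ}
    (π : MvPolynomial (Fin d) Γ(Y₀, W₀) →+* Γ(X₀, V₀)) (hπ : Function.Surjective π)
    (hπC : ∀ r, π (C r) = (f₀.appLE W₀ V₀ eV).hom r)
    {Z : Type u} [CommRing Z] [Algebra Z Γ(Y₀, W₀)] {M₀ N₀ : Type u}
    [AddCommGroup M₀] [Module (MvPolynomial (Fin d) Z) M₀] [AddCommGroup N₀] [Module (MvPolynomial (Fin d) Z) N₀]
    (u₀ : M₀ →ₗ[MvPolynomial (Fin d) Z] N₀)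
    (hmodel :
      letI := π.toAlgebra
      letI : Module (MvPolynomial (Fin d) Γ(Y₀, W₀)) Γ(F₀, V₀) := Module.compHom _ π
      letI : Module (MvPolynomial (Fin d) Γ(Y₀, W₀)) Γ(G₀, V₀) := Module.compHom _ π
      letI : Module (MvPolynomial (Fin d) Z) Γ(F₀, V₀) :=
        Module.compHom _ (algebraMap (MvPolynomial (Fin d) Z) (MvPolynomial (Fin d) Γ(Y₀, W₀)))
      letI : Module (MvPolynomial (Fin d) Z) Γ(G₀, V₀) :=
        Module.compHom _ (algebraMap (MvPolynomial (Fin d) Z) (MvPolynomial (Fin d) Γ(Y₀, W₀)))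
      haveI : IsScalarTower (MvPolynomial (Fin d) Z) (MvPolynomial (Fin d) Γ(Y₀, W₀)) Γ(F₀, V₀) :=
        IsScalarTower.of_algebraMap_smul fun _ _ => rfl
      haveI : IsScalarTower (MvPolynomial (Fin d) Z) (MvPolynomial (Fin d) Γ(Y₀, W₀)) Γ(G₀, V₀) :=
        IsScalarTower.of_algebraMap_smul fun _ _ => rfl
      ∃ (gM : M₀ →ₗ[MvPolynomial (Fin d) Z] Γ(F₀, V₀)) (gN : N₀ →ₗ[MvPolynomial (Fin d) Z] Γ(G₀, V₀)),
        IsBaseChange (MvPolynomial (Fin d) Γ(Y₀, W₀)) gM ∧ IsBaseChange (MvPolynomial (Fin d) Γ(Y₀, W₀)) gN ∧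
          ∀ x, sec h₀ V₀ (gM x) = gN (u₀ x))
    {x : X'} (hx : x ∈ p ⁻¹ᵁ V₀ ⊓ f' ⁻¹ᵁ W') (φ : MvPolynomial (Fin d) Γ(Y', W') →+* Γ(X', p ⁻¹ᵁ V₀ ⊓ f' ⁻¹ᵁ W'))
    (hφC : ∀ r, φ (C r) = (f'.appLE W' (p ⁻¹ᵁ V₀ ⊓ f' ⁻¹ᵁ W') inf_le_right).hom r)
    (hφX : ∀ i, φ (X i) = (p.appLE V₀ (p ⁻¹ᵁ V₀ ⊓ f' ⁻¹ᵁ W') inf_le_left).hom (π (X i)))
    (Q : Ideal (MvPolynomial (Fin d) Γ(Y', W'))) [Q.IsPrime]
    (hQ : ((affine_square sq hW₀ hV₀ hW' eV eW).1.primeIdealOf ⟨x, hx⟩).asIdeal.comap φ = Q) :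
    letI : Algebra Z Γ(Y', W') := ((s.appLE W₀ W' eW).hom.comp (algebraMap Z Γ(Y₀, W₀))).toAlgebra
    Cond f' ((Scheme.Modules.pullback p).map h₀) x ↔ ModelCond Γ(Y', W') u₀ Q := by
  obtain ⟨hU, hpush⟩ := affine_square sq hW₀ hV₀ hW' eV eW
  let U' := p ⁻¹ᵁ V₀ ⊓ f' ⁻¹ᵁ W'
  letI : Algebra Z Γ(Y', W') := ((s.appLE W₀ W' eW).hom.comp (algebraMap Z Γ(Y₀, W₀))).toAlgebra
  letI := π.toAlgebra
  letI : Module (MvPolynomial (Fin d) Γ(Y₀, W₀)) Γ(F₀, V₀) := Module.compHom _ π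
  letI : Module (MvPolynomial (Fin d) Γ(Y₀, W₀)) Γ(G₀, V₀) := Module.compHom _ π
  haveI : IsScalarTower (MvPolynomial (Fin d) Γ(Y₀, W₀)) Γ(X₀, V₀) Γ(F₀, V₀) :=
    IsScalarTower.of_algebraMap_smul fun _ _ => rfl
  haveI : IsScalarTower (MvPolynomial (Fin d) Γ(Y₀, W₀)) Γ(X₀, V₀) Γ(G₀, V₀) :=
    IsScalarTower.of_algebraMap_smul fun _ _ => rfl
  letI : Module (MvPolynomial (Fin d) Z) Γ(F₀, V₀) :=
    Module.compHom _ (algebraMap (MvPolynomial (Fin d) Z) (MvPolynomial (Fin d) Γ(Y₀, W₀)))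
  letI : Module (MvPolynomial (Fin d) Z) Γ(G₀, V₀) :=
    Module.compHom _ (algebraMap (MvPolynomial (Fin d) Z) (MvPolynomial (Fin d) Γ(Y₀, W₀)))
  haveI : IsScalarTower (MvPolynomial (Fin d) Z) (MvPolynomial (Fin d) Γ(Y₀, W₀)) Γ(F₀, V₀) :=
    IsScalarTower.of_algebraMap_smul fun _ _ => rfl
  haveI : IsScalarTower (MvPolynomial (Fin d) Z) (MvPolynomial (Fin d) Γ(Y₀, W₀)) Γ(G₀, V₀) :=
    IsScalarTower.of_algebraMap_smul fun _ _ => rfl
  obtain ⟨gM, gN, hM, hN, hc₀⟩ := hmodel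
  haveI := isQCoh_pullback p F₀
  haveI := isQCoh_pullback p G₀
  letI := (f₀.appLE W₀ V₀ eV).hom.toAlgebra
  letI := (s.appLE W₀ W' eW).hom.toAlgebra
  letI := (p.appLE V₀ U' inf_le_left).hom.toAlgebra
  letI := (f'.appLE W' U' inf_le_right).hom.toAlgebra
  letI : Algebra Γ(Y₀, W₀) Γ(X', U') := ((p.appLE V₀ U' inf_le_left).hom.comp (f₀.appLE W₀ V₀ eV).hom).toAlgebra
  haveI : IsScalarTower Γ(Y₀, W₀) Γ(X₀, V₀) Γ(X', U') := IsScalarTower.of_algebraMap_eq fun _ => rfl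
  haveI : IsScalarTower Γ(Y₀, W₀) Γ(Y', W') Γ(X', U') :=
    IsScalarTower.of_algebraMap_eq fun a => congr(($(hpush.w)).hom a)
  haveI : Algebra.IsPushout Γ(Y₀, W₀) Γ(X₀, V₀) Γ(Y', W') Γ(X', U') := CommRingCat.isPushout_iff_isPushout.mp hpush
  haveI : IsScalarTower Z Γ(Y₀, W₀) Γ(Y', W') := IsScalarTower.of_algebraMap_eq fun _ => rfl
  haveI : IsScalarTower Γ(Y₀, W₀) (MvPolynomial (Fin d) Γ(Y₀, W₀)) Γ(X₀, V₀) :=
    IsScalarTower.of_algebraMap_eq fun r => (hπC r).symm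
  let P := (Scheme.Modules.pullback p).obj G₀
  let P' := (Scheme.Modules.pullback p).obj F₀
  letI := Module.compHom Γ(P, U') (f'.appLE W' U' inf_le_right).hom
  haveI : IsScalarTower Γ(Y', W') Γ(X', U') Γ(P, U') := IsScalarTower.of_algebraMap_smul fun _ _ => rfl
  letI := Module.compHom Γ(P, U') (p.appLE V₀ U' inf_le_left).hom
  haveI : IsScalarTower Γ(X₀, V₀) Γ(X', U') Γ(P, U') := IsScalarTower.of_algebraMap_smul fun _ _ => rfl
  letI := Module.compHom Γ(P', U') (p.appLE V₀ U' inf_le_left).hom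
  haveI : IsScalarTower Γ(X₀, V₀) Γ(X', U') Γ(P', U') := IsScalarTower.of_algebraMap_smul fun _ _ => rfl
  refine (injFlat_iff f' ((Scheme.Modules.pullback p).map h₀) hW' hU inf_le_right hx).trans ?_
  exact change_modelCond (R₀ := Γ(Y₀, W₀)) (B₀ := Γ(X₀, V₀)) hπ (sec h₀ V₀) u₀ hM hN hc₀ φ hφC hφX
    (isBaseChange_pull p F₀ hV₀ hU inf_le_left) (isBaseChange_pull p G₀ hV₀ hU inf_le_left) _
    (fun m => sec_pullRes p h₀ inf_le_left m) _ Q hQ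

variable {I : Type u} [SmallCategory I] [IsCofiltered I] (D : I ⥤ Scheme.{u}) (c : Cone D)
  [∀ (i j : I) (φ : i ⟶ j), IsAffineHom (D.map φ)] {i₀ : I}

attribute [local instance] MvPolynomial.algebraMvPolynomial in
set_option maxHeartbeats 2000000 in
/-- The condition at a point holds at a stage. -/
theorem exists_stage_cond (hc : IsLimit c) (f₀ : X₀ ⟶ Y₀) (g₀ : Y₀ ⟶ D.obj i₀) [LocallyOfFinitePresentation f₀]
    {F₀ G₀ : X₀.Modules} [Coh.IsQCoh F₀] [Coh.IsQCoh G₀] (hF₀ : CohB1.IsFP F₀) (hG₀ : CohB1.IsFP G₀) (h₀ : F₀ ⟶ G₀)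
    {X Y : Scheme.{u}} {f : X ⟶ Y} {g : Y ⟶ c.pt} {qY : Y ⟶ Y₀} {qX : X ⟶ X₀}
    (hY : IsPullback qY g g₀ (c.π.app i₀)) (hX : IsPullback qX f f₀ qY) (x : X)
    (h : Cond f ((Scheme.Modules.pullback qX).map h₀) x) :
    ∃ k : Over i₀, Cond (pullback.snd f₀ (pullback.snd (D.map k.hom) g₀))
      ((Scheme.Modules.pullback (pullback.fst f₀ (pullback.snd (D.map k.hom) g₀))).map h₀)
      (pullback.lift (f := f₀) (g := pullback.snd (D.map k.hom) g₀) qX (f ≫ stageMor D c g₀ hY k)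
        (by rw [Category.assoc, stageMor_snd]; exact hX.w) x) := by
  classical
  obtain ⟨_, ⟨W₀, hW₀, rfl⟩, hxW₀, -⟩ :=
    Y₀.isBasis_affineOpens.exists_subset_of_mem_open (Set.mem_univ (f₀ (qX x))) isOpen_univ
  obtain ⟨_, ⟨V₀, hV₀, rfl⟩, hxV₀, hVW⟩ :=
    X₀.isBasis_affineOpens.exists_subset_of_mem_open (a := qX x) (show qX x ∈ f₀ ⁻¹ᵁ W₀ from hxW₀) (f₀ ⁻¹ᵁ W₀).2
  change Y₀.Opens at W₀
  change X₀.Opens at V₀
  replace hW₀ : IsAffineOpen W₀ := hW₀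
  replace hV₀ : IsAffineOpen V₀ := hV₀
  have eV : V₀ ≤ f₀ ⁻¹ᵁ W₀ := hVW
  letI := (f₀.appLE W₀ V₀ eV).hom.toAlgebra
  haveI : Algebra.FinitePresentation Γ(Y₀, W₀) Γ(X₀, V₀) :=
    RingHom.finitePresentation_algebraMap.mp (f₀.finitePresentation_appLE hW₀ hV₀ eV)
  obtain ⟨d, π, hπ, hker⟩ := Algebra.FinitePresentation.out (R := Γ(Y₀, W₀)) (A := Γ(X₀, V₀))
  let P₀ := MvPolynomial (Fin d) Γ(Y₀, W₀)
  letI := π.toRingHom.toAlgebra
  haveI : Module.FinitePresentation P₀ Γ(X₀, V₀) :=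
    Module.finitePresentation_of_surjective (Algebra.linearMap P₀ Γ(X₀, V₀)) hπ hker
  letI : Module P₀ Γ(F₀, V₀) := Module.compHom _ π.toRingHom
  haveI : IsScalarTower P₀ Γ(X₀, V₀) Γ(F₀, V₀) := IsScalarTower.of_algebraMap_smul fun _ _ => rfl
  letI : Module P₀ Γ(G₀, V₀) := Module.compHom _ π.toRingHom
  haveI : IsScalarTower P₀ Γ(X₀, V₀) Γ(G₀, V₀) := IsScalarTower.of_algebraMap_smul fun _ _ => rfl
  haveI := Groth.L20.ModStalk.finitePresentation_sections F₀ hF₀ hV₀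
  haveI := Groth.L20.ModStalk.finitePresentation_sections G₀ hG₀ hV₀
  haveI : Module.FinitePresentation P₀ Γ(F₀, V₀) := Module.FinitePresentation.trans P₀ Γ(F₀, V₀) Γ(X₀, V₀)
  haveI : Module.FinitePresentation P₀ Γ(G₀, V₀) := Module.FinitePresentation.trans P₀ Γ(G₀, V₀) Γ(X₀, V₀)
  obtain ⟨Z, hZ, M₀, N₀, _, _, _, _, _, _, u₀, gM, gN, hM, hN, hc₀⟩ :=
    exists_poly_model ((sec h₀ V₀).restrictScalars P₀)
  haveI := hZ
  have hπC : ∀ r, π.toRingHom (C r) = (f₀.appLE W₀ V₀ eV).hom r := fun r => π.commutes r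
  -- the limit
  haveI : IsAffineHom (c.π.app i₀) := isAffineHom_π_app D c hc i₀
  haveI : IsAffineHom qY := MorphismProperty.of_isPullback (P := @IsAffineHom) hY.flip inferInstance
  let Wl := qY ⁻¹ᵁ W₀
  have hWl : IsAffineOpen Wl := hW₀.preimage qY
  have hxl : x ∈ qX ⁻¹ᵁ V₀ ⊓ f ⁻¹ᵁ Wl := ⟨hxV₀, by
    show qY (f x) ∈ W₀
    rw [← Scheme.Hom.comp_apply, ← hX.w, Scheme.Hom.comp_apply]
    exact hxW₀⟩
  let A := Γ(Y, Wl)
  letI : Algebra Z A := ((qY.appLE W₀ Wl le_rfl).hom.comp (algebraMap Z Γ(Y₀, W₀))).toAlgebra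
  let φl : MvPolynomial (Fin d) A →+* Γ(X, qX ⁻¹ᵁ V₀ ⊓ f ⁻¹ᵁ Wl) := eval₂Hom (f.appLE Wl _ inf_le_right).hom
    fun i => (qX.appLE V₀ (qX ⁻¹ᵁ V₀ ⊓ f ⁻¹ᵁ Wl) inf_le_left).hom (π.toRingHom (MvPolynomial.X i))
  let Ql : Ideal (MvPolynomial (Fin d) A) :=
    ((affine_square hX hW₀ hV₀ hWl eV le_rfl).1.primeIdealOf ⟨x, hxl⟩).asIdeal.comap φl
  haveI : Ql.IsPrime := Ideal.IsPrime.comap _
  have hl : ModelCond A u₀ Ql :=
    (piece_iff hX h₀ hW₀ hV₀ hWl eV le_rfl π.toRingHom hπ hπC u₀ ⟨gM, gN, hM, hN, hc₀⟩ hxl φl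
      (fun r => eval₂Hom_C _ _ r) (fun i => eval₂Hom_X' _ _ i) Ql rfl).mp h
  obtain ⟨B, hB, hB1⟩ := exists_modelCond_stage u₀ Ql hl
  -- the stage
  haveI : Algebra.FiniteType Z B := B.fg_iff_finiteType.mp hB
  obtain ⟨k, r, hrZ, hr⟩ := exists_stage_hom D c g₀ hc hY hW₀ (Z := CommRingCat.of Z) (B := CommRingCat.of B)
    (CommRingCat.ofHom (algebraMap Z Γ(Y₀, W₀))) (CommRingCat.ofHom (algebraMap Z B))
    (RingHom.finitePresentation_algebraMap.mpr (Algebra.FinitePresentation.of_finiteType.mp inferInstance))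
    (CommRingCat.ofHom B.val.toRingHom) (CommRingCat.hom_ext (RingHom.ext fun z => by
      show algebraMap Z A z = (qY.app W₀).hom (algebraMap Z Γ(Y₀, W₀) z)
      rw [Scheme.Hom.app_eq_appLE]
      rfl))
  refine ⟨k, ?_⟩
  let pY := pullback.snd (D.map k.hom) g₀
  haveI : IsAffineHom pY := MorphismProperty.pullback_snd _ _ inferInstance
  let Wk := pY ⁻¹ᵁ W₀
  have hWk : IsAffineOpen Wk := hW₀.preimage pY
  let vY := stageMor D c g₀ hY k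
  have hvY : vY ≫ pY = qY := stageMor_snd D c g₀ hY k
  have hw : qX ≫ f₀ = (f ≫ vY) ≫ pY := by rw [Category.assoc, hvY]; exact hX.w
  let vX : X ⟶ pullback f₀ pY := pullback.lift qX (f ≫ vY) hw
  have hv1 : vX ≫ pullback.fst f₀ pY = qX := pullback.lift_fst _ _ _
  have hv2 : vX ≫ pullback.snd f₀ pY = f ≫ vY := pullback.lift_snd _ _ _
  let Uk := pullback.fst f₀ pY ⁻¹ᵁ V₀ ⊓ pullback.snd f₀ pY ⁻¹ᵁ Wk
  have hxk : vX x ∈ Uk := by
    refine ⟨?_, ?_⟩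
    · show pullback.fst f₀ pY (vX x) ∈ V₀
      rw [← Scheme.Hom.comp_apply, hv1]
      exact hxV₀
    · show pY (pullback.snd f₀ pY (vX x)) ∈ W₀
      rw [← Scheme.Hom.comp_apply, ← Scheme.Hom.comp_apply, ← Category.assoc, hv2, Category.assoc, hvY, Scheme.Hom.comp_apply]
      exact hxl.2
  have hsq := IsPullback.of_hasPullback f₀ pY
  let Rk := Γ(pullback (D.map k.hom) g₀, Wk)
  letI : Algebra Z Rk := ((pY.appLE W₀ Wk le_rfl).hom.comp (algebraMap Z Γ(Y₀, W₀))).toAlgebra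
  let φk : MvPolynomial (Fin d) Rk →+* Γ(pullback f₀ pY, Uk) := eval₂Hom ((pullback.snd f₀ pY).appLE Wk Uk inf_le_right).hom
    fun i => ((pullback.fst f₀ pY).appLE V₀ Uk inf_le_left).hom (π.toRingHom (MvPolynomial.X i))
  let Qk : Ideal (MvPolynomial (Fin d) Rk) :=
    ((affine_square hsq hW₀ hV₀ hWk eV le_rfl).1.primeIdealOf ⟨vX x, hxk⟩).asIdeal.comap φk
  haveI : Qk.IsPrime := Ideal.IsPrime.comap _
  refine (piece_iff hsq h₀ hW₀ hV₀ hWk eV le_rfl π.toRingHom hπ hπC u₀ ⟨gM, gN, hM, hN, hc₀⟩ hxk φk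
    (fun r => eval₂Hom_C _ _ r) (fun i => eval₂Hom_X' _ _ i) Qk rfl).mpr ?_
  refine modelCond_baseChange u₀ r.hom (fun z => ?_) Qk _ ?_ hB1
  · have := congr(($hrZ).hom z)
    rw [Scheme.Hom.app_eq_appLE] at this
    exact this
  -- the primes agree
  have eU : qX ⁻¹ᵁ V₀ ⊓ f ⁻¹ᵁ Wl ≤ vX ⁻¹ᵁ Uk := by
    intro y hy
    refine ⟨?_, ?_⟩
    · show pullback.fst f₀ pY (vX y) ∈ V₀
      rw [← Scheme.Hom.comp_apply, hv1]
      exact hy.1
    · show pY (pullback.snd f₀ pY (vX y)) ∈ W₀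
      rw [← Scheme.Hom.comp_apply, ← Scheme.Hom.comp_apply, ← Category.assoc, hv2, Category.assoc, hvY, Scheme.Hom.comp_apply]
      exact hy.2
  show Ideal.comap (MvPolynomial.map r.hom) (Ideal.comap φk _) = Ideal.comap (MvPolynomial.map B.val.toRingHom) (Ideal.comap φl _)
  rw [← congr($(IsAffineOpen.comap_primeIdealOf_appLE Uk (affine_square hsq hW₀ hV₀ hWk eV le_rfl).1 _
    (affine_square hX hW₀ hV₀ hWl eV le_rfl).1 eU hxl).1)]
  show Ideal.comap (MvPolynomial.map r.hom) (Ideal.comap φk (Ideal.comap (vX.appLE Uk _ eU).hom _)) = _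
  rw [Ideal.comap_comap, Ideal.comap_comap, Ideal.comap_comap]
  congr 1
  refine MvPolynomial.ringHom_ext (fun b => ?_) fun i => ?_
  · show (vX.appLE Uk _ eU).hom (φk (MvPolynomial.map r.hom (C b))) = φl (MvPolynomial.map B.val.toRingHom (C b))
    rw [MvPolynomial.map_C, MvPolynomial.map_C, eval₂Hom_C, eval₂Hom_C, ← CommRingCat.comp_apply,
      Scheme.Hom.appLE_comp_appLE, appLE_congr_hom hv2]
    have := congr(($hr).hom b)
    rw [CommRingCat.comp_apply] at this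
    show _ = (f.appLE Wl _ inf_le_right).hom ((CommRingCat.ofHom B.val.toRingHom).hom b)
    rw [← this, ← CommRingCat.comp_apply (g := f.appLE Wl _ inf_le_right), Scheme.Hom.appLE_comp_appLE]
  · show (vX.appLE Uk _ eU).hom (φk (MvPolynomial.map r.hom (MvPolynomial.X i))) = φl (MvPolynomial.map B.val.toRingHom (MvPolynomial.X i))
    rw [MvPolynomial.map_X, MvPolynomial.map_X, eval₂Hom_X', eval₂Hom_X', ← CommRingCat.comp_apply,
      Scheme.Hom.appLE_comp_appLE, appLE_congr_hom hv1]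

end Groth.L02.InjFlat
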