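import Groth.Agent.L02.InjFlat.Limit
import Groth.Agent.L19.FPExtend.Ops
import Groth.Agent.L16.Devissage

/-!
Flatness at a point descends along limits with affine transition morphisms.
-/

set_option autoImplicit false
set_option linter.style.haveILetI false
set_option backward.isDefEq.respectTransparency.types false
set_option backward.isDefEq.respectTransparency false

universe u

open CategoryTheory CategoryTheory.Limits AlgebraicGeometry

namespace Groth.L02.InjFlat

theorem isZero_pullback {X Z : Scheme.{u}} (q : Z ⟶ X) {A : X.Modules} (h : IsZero A) :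
    IsZero ((Scheme.Modules.pullback q).obj A) :=
  haveI : (Scheme.Modules.pullback q).IsLeftAdjoint := (Scheme.Modules.pullbackPushforwardAdjunction q).isLeftAdjoint
  (Scheme.Modules.pullback q).map_isZero h

theorem cond_zero_iff {X Y : Scheme.{u}} (f : X ⟶ Y) {A B : X.Modules} (hA : IsZero A) (w : A ⟶ B) (x : X) :
    Cond f w x ↔ FlatMod.IsFlatOverAt f B x := by
  obtain rfl : w = 0 := hA.eq_of_src _ _
  refine ⟨fun h => Groth.L20.FibreModule.isFlatOverAt_congr f cokernelZeroIsoTarget h.2,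
    fun h => ⟨?_, Groth.L20.FibreModule.isFlatOverAt_congr f cokernelZeroIsoTarget.symm h⟩⟩
  have hz : IsZero ((Groth.L00.Stk.F X x).obj A) := (Groth.L00.Stk.isZero_iff A).mp hA x
  haveI : Subsingleton ((Groth.L00.Stk.F X x).obj A) := ModuleCat.subsingleton_of_isZero hz
  exact fun a b _ => Subsingleton.elim a b

variable {I : Type u} [SmallCategory I] [IsCofiltered I] (D : I ⥤ Scheme.{u}) (c : Cone D)
  [∀ (i j : I) (φ : i ⟶ j), IsAffineHom (D.map φ)] {i₀ : I}

/-- Flatness at a point holds at a stage. -/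
theorem exists_stage_flatAt (hc : IsLimit c) {X₀ Y₀ : Scheme.{u}} (f₀ : X₀ ⟶ Y₀) (g₀ : Y₀ ⟶ D.obj i₀)
    [LocallyOfFinitePresentation f₀] {G₀ : X₀.Modules} [Coh.IsQCoh G₀] (hG₀ : CohB1.IsFP G₀)
    {X Y : Scheme.{u}} {f : X ⟶ Y} {g : Y ⟶ c.pt} {qY : Y ⟶ Y₀} {qX : X ⟶ X₀}
    (hY : IsPullback qY g g₀ (c.π.app i₀)) (hX : IsPullback qX f f₀ qY) (x : X)
    (h : FlatMod.IsFlatOverAt f ((Scheme.Modules.pullback qX).obj G₀) x) :
    ∃ k : Over i₀, FlatMod.IsFlatOverAt (pullback.snd f₀ (pullback.snd (D.map k.hom) g₀))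
      ((Scheme.Modules.pullback (pullback.fst f₀ (pullback.snd (D.map k.hom) g₀))).obj G₀)
      (pullback.lift (f := f₀) (g := pullback.snd (D.map k.hom) g₀) qX (f ≫ stageMor D c g₀ hY k)
        (by rw [Category.assoc, stageMor_snd]; exact hX.w) x) := by
  have hZ : IsZero (cokernel (𝟙 G₀)) := isZero_cokernel_of_epi _
  haveI := Groth.L16.Devissage.isQCoh_cokernel (𝟙 G₀)
  obtain ⟨k, hk⟩ := exists_stage_cond D c hc f₀ g₀ (Groth.L19.FPExtend.isFP_cokernel hG₀ hG₀ (𝟙 G₀)) hG₀
    (0 : cokernel (𝟙 G₀) ⟶ G₀) hY hX x ((cond_zero_iff f (isZero_pullback qX hZ) _ x).mpr h)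
  exact ⟨k, (cond_zero_iff _ (isZero_pullback _ hZ) _ _).mp hk⟩

end Groth.L02.InjFlat
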