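import Groth.Agent.L02.InjFlat.LimitFlat
import Groth.Agent.L19.Limit.Pullback
import Groth.Agent.L19.LimMod.Zero
import Groth.Agent.L20.FibreModuleOpen

/-!
Flatness over a limit with affine transition morphisms descends to a stage.
-/

set_option autoImplicit false
set_option linter.style.haveILetI false
set_option backward.isDefEq.respectTransparency.types false
set_option backward.isDefEq.respectTransparency false
set_option backward.defeqAttrib.useBackward true

universe u

open CategoryTheory CategoryTheory.Limits AlgebraicGeometry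

namespace Groth.L02.InjFlat

open Groth.L19.Limit

/-- Flatness at a point is stable under base change. -/
theorem flatAt_baseChange {X Y X' Y' : Scheme.{u}} {f : X ⟶ Y} {f' : X' ⟶ Y'} {g' : X' ⟶ X} {g : Y' ⟶ Y}
    (sq : IsPullback g' f' f g) (F : X.Modules) [Coh.IsQCoh F] (x' : X') (h : FlatMod.IsFlatOverAt f F (g' x')) :
    FlatMod.IsFlatOverAt f' ((Scheme.Modules.pullback g').obj F) x' := by
  have hZ : IsZero (cokernel (𝟙 F)) := isZero_cokernel_of_epi _
  haveI := Groth.L16.Devissage.isQCoh_cokernel (𝟙 F)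
  exact (cond_zero_iff f' (isZero_pullback g' hZ) _ x').mp
    (cond_baseChange sq (0 : cokernel (𝟙 F) ⟶ F) x' ((cond_zero_iff f hZ _ _).mpr h))

theorem flatAt_pullback_comp {A B C Y : Scheme.{u}} (v : A ⟶ B) (p : B ⟶ C) (q : A ⟶ C) (h : v ≫ p = q)
    (f : A ⟶ Y) (F : C.Modules) (x : A)
    (hf : FlatMod.IsFlatOverAt f ((Scheme.Modules.pullback v).obj ((Scheme.Modules.pullback p).obj F)) x) :
    FlatMod.IsFlatOverAt f ((Scheme.Modules.pullback q).obj F) x :=
  Groth.L20.FibreModule.isFlatOverAt_congr f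
    ((Scheme.Modules.pullbackComp v p ≪≫ Scheme.Modules.pullbackCongr h).app F) hf

variable {I : Type u} [SmallCategory I] [IsCofiltered I] {D : I ⥤ Scheme.{u}} {c : Cone D}
  [∀ (i j : I) (φ : i ⟶ j), IsAffineHom (D.map φ)] {i₀ : I}

/-- Flatness everywhere holds at a stage. -/
theorem exists_stage_flat (hc : IsLimit c) [CompactSpace (D.obj i₀)] {X₀ Y₀ : Scheme.{u}} (f₀ : X₀ ⟶ Y₀)
    (g₀ : Y₀ ⟶ D.obj i₀) [LocallyOfFinitePresentation f₀] [QuasiCompact (f₀ ≫ g₀)]
    {G₀ : X₀.Modules} [Coh.IsQCoh G₀] (hG₀ : CohB1.IsFP G₀)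
    {X Y : Scheme.{u}} {f : X ⟶ Y} {g : Y ⟶ c.pt} {qY : Y ⟶ Y₀} {qX : X ⟶ X₀}
    (hY : IsPullback qY g g₀ (c.π.app i₀)) (hX : IsPullback qX f f₀ qY)
    (h : FlatMod.IsFlatOver f ((Scheme.Modules.pullback qX).obj G₀)) :
    ∃ k : Over i₀, FlatMod.IsFlatOver (Groth.L19.Limit.stageHom f₀ g₀ k)
      ((Scheme.Modules.pullback (pullback.snd (D.map k.hom) (f₀ ≫ g₀))).obj G₀) := by
  classical
  by_contra hne
  haveI : ∀ {j l : Over i₀} (m : j ⟶ l), IsAffineHom ((bcDiagram D (f₀ ≫ g₀)).map m) := fun m => inferInstance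
  haveI : ∀ k : Over i₀, Coh.IsQCoh ((Scheme.Modules.pullback (pullback.snd (D.map k.hom) (f₀ ≫ g₀))).obj G₀) :=
    fun k => Groth.L16.AffineBC.isQCoh_pullback _ G₀
  let Bad : ∀ k : Over i₀, Set ((bcDiagram D (f₀ ≫ g₀)).obj k) := fun k =>
    {z | ¬ FlatMod.IsFlatOverAt (Groth.L19.Limit.stageHom f₀ g₀ k)
      ((Scheme.Modules.pullback (pullback.snd (D.map k.hom) (f₀ ≫ g₀))).obj G₀) z}
  have hclosed : ∀ k, IsClosed (Bad k) := fun k => by
    haveI : LocallyOfFinitePresentation (Groth.L19.Limit.stageHom (D := D) f₀ g₀ k) :=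
      MorphismProperty.of_isPullback (isPullback_stageHom f₀ g₀ k) inferInstance
    exact (Groth.L20.FibreModule.isOpen_isFlatOverAt _ _ inferInstance
      (Groth.L19.LimMod.isFP_pullback' _ G₀ hG₀)).isClosed_compl
  have hnon : ∀ k, (Bad k).Nonempty := fun k => by
    by_contra he
    exact hne ⟨k, fun z => by_contra fun hz => he ⟨z, hz⟩⟩
  haveI : ∀ k : Over i₀, CompactSpace ((bcDiagram D (f₀ ≫ g₀)).obj k) := fun k => by
    haveI : CompactSpace X₀ := QuasiCompact.compactSpace_of_compactSpace (f₀ ≫ g₀)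
    haveI : IsAffineHom (pullback.snd (D.map k.hom) (f₀ ≫ g₀)) :=
      MorphismProperty.pullback_snd _ _ inferInstance
    exact QuasiCompact.compactSpace_of_compactSpace (pullback.snd (D.map k.hom) (f₀ ≫ g₀))
  have hmaps : ∀ {j l : Over i₀} (m : j ⟶ l), Set.MapsTo ((bcDiagram D (f₀ ≫ g₀)).map m) (Bad j) (Bad l) := by
    intro j l m z hz hl
    refine hz (flatAt_pullback_comp _ (pullback.snd (D.map l.hom) (f₀ ≫ g₀)) _ ?_ _ G₀ z
      (flatAt_baseChange (g := (bcDiagram D g₀).map m) ?_ _ z hl))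
    · simp [bcDiagram]
    · refine IsPullback.of_right ?_ ?_ (isPullback_stageHom f₀ g₀ l)
      · convert isPullback_stageHom (D := D) f₀ g₀ j using 1 <;> simp [bcDiagram]
      · apply pullback.hom_ext <;> simp [bcDiagram, Groth.L19.Limit.stageHom]
  obtain ⟨x, hx⟩ := exists_mem_of_isClosed_of_nonempty (bcDiagram D (f₀ ≫ g₀)) (sqCone (hX.paste_vert hY))
    (isLimitSqCone hc (hX.paste_vert hY)) Bad hclosed hnon (fun k => (hclosed k).isCompact) hmaps
  obtain ⟨k, hk⟩ := exists_stage_flatAt D c hc f₀ g₀ hG₀ hY hX x (h x)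
  -- compare the two models of the stage
  let e : (bcDiagram D (f₀ ≫ g₀)).obj k ⟶ pullback f₀ (pullback.snd (D.map k.hom) g₀) :=
    pullback.lift (pullback.snd _ _) (Groth.L19.Limit.stageHom f₀ g₀ k) (isPullback_stageHom f₀ g₀ k).w
  have hsq : IsPullback e (Groth.L19.Limit.stageHom f₀ g₀ k) (pullback.snd f₀ (pullback.snd (D.map k.hom) g₀)) (𝟙 _) := by
    refine IsPullback.of_right ?_ ?_ (IsPullback.of_hasPullback f₀ (pullback.snd (D.map k.hom) g₀))
    · rw [pullback.lift_fst, Category.id_comp]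
      exact isPullback_stageHom f₀ g₀ k
    · rw [pullback.lift_snd, Category.comp_id]
  haveI := Groth.L16.AffineBC.isQCoh_pullback (pullback.fst f₀ (pullback.snd (D.map k.hom) g₀)) G₀
  refine hx k (flatAt_pullback_comp e _ _ (pullback.lift_fst _ _ _) _ G₀ _ (flatAt_baseChange hsq _ _ ?_))
  have hcomp : toStage (hX.paste_vert hY) k ≫ e =
      pullback.lift (f := f₀) (g := pullback.snd (D.map k.hom) g₀) qX (f ≫ stageMor D c g₀ hY k)
        (by rw [Category.assoc, stageMor_snd]; exact hX.w) := by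
    apply pullback.hom_ext
    · rw [Category.assoc, pullback.lift_fst, pullback.lift_fst, toStage_snd]
    · rw [Category.assoc, pullback.lift_snd, pullback.lift_snd, toStage_stageHom hY hX k]
      rfl
  show FlatMod.IsFlatOverAt _ _ (e (toStage (hX.paste_vert hY) k x))
  rw [← Scheme.Hom.comp_apply, hcomp]
  exact hk

end Groth.L02.InjFlat
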