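import Groth.Agent.L02.InjFlat.Model
import Groth.Agent.L02.CAlg.EssFP

/-!
The criterion given a Noetherian stage of a polynomial algebra.
-/

set_option autoImplicit false
set_option linter.style.haveILetI false
set_option maxSynthPendingDepth 3

universe u

open scoped TensorProduct
open IsLocalRing MvPolynomial

namespace Groth.L02.InjFlat

/-- The submonoid image localises to the same ring. -/
theorem flat_of_clear {P W S : Type u} [CommRing P] [CommRing W] [CommRing S] [Algebra P S]
    (T : Submonoid P) [IsLocalization T S] (π : P →+* W) (φ : W →+* S) (hφ : φ.comp π = algebraMap P S)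
    (h : ∀ w : W, ∃ t ∈ T, ∃ p : P, π t * w = π p) : φ.Flat := by
  letI := φ.toAlgebra
  have hfac : ∀ p, algebraMap W S (π p) = algebraMap P S p := fun p => RingHom.congr_fun hφ p
  haveI : IsLocalization (T.map π) S := by
    refine ⟨⟨fun y => ?_, fun z => ?_, fun {x y} hxy => ?_⟩⟩
    · obtain ⟨_, t, ht, rfl⟩ := y
      show IsUnit (algebraMap W S (π t))
      rw [hfac]
      exact IsLocalization.map_units S ⟨t, ht⟩
    · obtain ⟨⟨a, t⟩, hat⟩ := IsLocalization.surj T z
      exact ⟨⟨π a, ⟨π t, t, t.2, rfl⟩⟩, by show z * algebraMap W S (π t) = algebraMap W S (π a); rw [hfac, hfac, hat]⟩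
    · obtain ⟨t, ht, p, hp⟩ := h x
      obtain ⟨t', ht', p', hp'⟩ := h y
      have hpe : algebraMap P S (t' * p) = algebraMap P S (t * p') := by
        rw [← hfac, ← hfac, map_mul π, map_mul π, ← hp, ← hp']
        simp only [map_mul, hxy]
        ring
      obtain ⟨c, hc⟩ := IsLocalization.exists_of_eq (M := T) hpe
      refine ⟨⟨π (c * (t * t')), _, mul_mem c.2 (mul_mem ht ht'), rfl⟩, ?_⟩
      show π ((c : P) * (t * t')) * x = π ((c : P) * (t * t')) * y
      simp only [map_mul]
      calc π c * (π t * π t') * x = π ((c : P) * (t' * p)) := by rw [map_mul, map_mul, ← hp]; ring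
        _ = π ((c : P) * (t * p')) := by rw [hc]
        _ = π c * (π t * π t') * y := by rw [map_mul, map_mul, ← hp']; ring
  exact IsLocalization.flat S (T.map π)

set_option maxHeartbeats 1600000 in
/-- The criterion given a Noetherian stage. -/
theorem inj_flat_of_stage {R B S M N M' N' : Type u} [CommRing R] [IsLocalRing R] [CommRing B] [IsNoetherianRing B]
    [Algebra B R] {d : ℕ}
    (q : Ideal (MvPolynomial (Fin d) R)) [q.IsPrime]
    (hq : q.comap (algebraMap R (MvPolynomial (Fin d) R)) = maximalIdeal R)
    [CommRing S] [IsLocalRing S] [Algebra (MvPolynomial (Fin d) R) S] [IsLocalization.AtPrime S q]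
    [Algebra R S] [IsScalarTower R (MvPolynomial (Fin d) R) S]
    [Algebra (MvPolynomial (Fin d) B) S]
    (hU₁S : ∀ a, algebraMap (MvPolynomial (Fin d) B) S a =
      algebraMap (MvPolynomial (Fin d) R) S (MvPolynomial.map (algebraMap B R) a))
    [AddCommGroup M'] [Module (MvPolynomial (Fin d) B) M'] [Module.Finite (MvPolynomial (Fin d) B) M']
    [AddCommGroup N'] [Module (MvPolynomial (Fin d) B) N'] [Module B N']
    [IsScalarTower B (MvPolynomial (Fin d) B) N']
    (hflat : Module.Flat B (LocalizedModule (q.comap (MvPolynomial.map (algebraMap B R))).primeCompl N'))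
    (u' : M' →ₗ[MvPolynomial (Fin d) B] N')
    [AddCommGroup M] [Module S M] [Module R M] [IsScalarTower R S M]
    [Module (MvPolynomial (Fin d) B) M] [IsScalarTower (MvPolynomial (Fin d) B) S M]
    [AddCommGroup N] [Module S N] [Module R N] [IsScalarTower R S N]
    [Module (MvPolynomial (Fin d) B) N] [IsScalarTower (MvPolynomial (Fin d) B) S N]
    {gM : M' →ₗ[MvPolynomial (Fin d) B] M} (hM : IsBaseChange S gM)
    {gN : N' →ₗ[MvPolynomial (Fin d) B] N} (hN : IsBaseChange S gN)
    (u : M →ₗ[S] N) (hc : ∀ x, u (gM x) = gN (u' x))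
    (hu : ∀ x : M, u x ∈ (maximalIdeal R).map (algebraMap R S) • (⊤ : Submodule S N) →
      x ∈ (maximalIdeal R).map (algebraMap R S) • (⊤ : Submodule S M)) :
    Function.Injective u ∧ Module.Flat R (N ⧸ LinearMap.range u) := by
  let P := MvPolynomial (Fin d) R
  let U₁ := MvPolynomial (Fin d) B
  let χ : U₁ →+* P := MvPolynomial.map (algebraMap B R)
  have hχB : ∀ b, χ (algebraMap B U₁ b) = algebraMap R P (algebraMap B R b) := fun b => MvPolynomial.map_C _ _
  let q₁ := q.comap χ
  let L₁ := Localization.AtPrime q₁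
  let p := (maximalIdeal R).comap (algebraMap B R)
  have hpq : p = q₁.comap (algebraMap B U₁) := by
    ext b
    show algebraMap B R b ∈ maximalIdeal R ↔ χ (algebraMap B U₁ b) ∈ q
    rw [hχB, ← hq]
    rfl
  let Bp := Localization.AtPrime p
  letI : Algebra Bp L₁ := (Localization.localRingHom p q₁ (algebraMap B U₁) hpq).toAlgebra
  haveI : IsLocalHom (algebraMap Bp L₁) := Localization.isLocalHom_localRingHom _ _ _ _
  haveI : IsScalarTower B Bp L₁ := IsScalarTower.of_algebraMap_eq fun b => by
    rw [IsScalarTower.algebraMap_apply B U₁ L₁]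
    exact (Localization.localRingHom_to_map p q₁ (algebraMap B U₁) hpq b).symm
  have hBpR : ∀ b : p.primeCompl, IsUnit (algebraMap B R b) := fun b => by_contra fun h => b.2 h
  letI : Algebra Bp R := (IsLocalization.lift hBpR : Bp →+* R).toAlgebra
  haveI : IsScalarTower B Bp R := IsScalarTower.of_algebraMap_eq fun b => (IsLocalization.lift_eq hBpR b).symm
  haveI : IsLocalHom (algebraMap Bp R) := by
    constructor
    intro a ha
    obtain ⟨b, t, rfl⟩ := IsLocalization.exists_mk'_eq p.primeCompl a
    have hb : b ∉ p := by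
      intro hb
      have h1 : algebraMap Bp R (IsLocalization.mk' Bp b t) * algebraMap B R t = algebraMap B R b := by
        rw [IsScalarTower.algebraMap_apply B Bp R (t : B), ← map_mul, IsLocalization.mk'_spec,
          ← IsScalarTower.algebraMap_apply B Bp R]
      exact hb (h1 ▸ ha.mul (hBpR t))
    exact IsLocalization.AtPrime.isUnit_mk'_iff Bp p b t |>.mpr hb
  have hunit : ∀ x : q₁.primeCompl, IsUnit (((algebraMap P S).comp χ) x) := fun x =>
    IsLocalization.map_units S (⟨χ x, x.2⟩ : q.primeCompl)
  letI : Algebra L₁ S := (IsLocalization.lift hunit : L₁ →+* S).toAlgebra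
  have hL₁S : ∀ a, algebraMap L₁ S (algebraMap U₁ L₁ a) = algebraMap P S (χ a) := fun a => IsLocalization.lift_eq hunit a
  haveI : IsLocalHom (algebraMap L₁ S) := by
    constructor
    intro a ha
    obtain ⟨b, t, rfl⟩ := IsLocalization.exists_mk'_eq q₁.primeCompl a
    refine IsLocalization.AtPrime.isUnit_mk'_iff L₁ q₁ b t |>.mpr fun hb => ?_
    have h1 : algebraMap L₁ S (IsLocalization.mk' L₁ b t) * algebraMap P S (χ t) = algebraMap P S (χ b) := by
      rw [← hL₁S, ← hL₁S, ← map_mul, IsLocalization.mk'_spec]
    have h2 : IsUnit (algebraMap P S (χ b)) := h1 ▸ ha.mul (hunit t)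
    exact (IsLocalization.AtPrime.isUnit_to_map_iff S q (χ b)).mp h2 hb
  haveI : IsLocalHom (algebraMap R S) := by
    constructor
    intro r hr
    rw [IsScalarTower.algebraMap_apply R P S] at hr
    have h1 : algebraMap R P r ∉ q := (IsLocalization.AtPrime.isUnit_to_map_iff S q _).mp hr
    by_contra h2
    exact h1 (show r ∈ q.comap (algebraMap R P) from hq.symm ▸ h2)
  letI : Algebra Bp S := ((algebraMap R S).comp (algebraMap Bp R)).toAlgebra
  haveI : IsScalarTower Bp R S := IsScalarTower.of_algebraMap_eq fun _ => rfl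
  haveI : IsScalarTower Bp L₁ S := by
    refine IsScalarTower.of_algebraMap_eq' (IsLocalization.ringHom_ext p.primeCompl (RingHom.ext fun b => ?_))
    show algebraMap R S (algebraMap Bp R (algebraMap B Bp b)) = algebraMap L₁ S (algebraMap Bp L₁ (algebraMap B Bp b))
    rw [← IsScalarTower.algebraMap_apply B Bp R, ← IsScalarTower.algebraMap_apply B Bp L₁,
      IsScalarTower.algebraMap_apply B U₁ L₁, hL₁S, hχB, ← IsScalarTower.algebraMap_apply R P S]
  -- the localised base change is the localised module
  have hW : (Algebra.TensorProduct.lift (IsScalarTower.toAlgHom Bp R S) (IsScalarTower.toAlgHom Bp L₁ S)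
      fun _ _ => Commute.all _ _).toRingHom.Flat := by
    let π : P →+* R ⊗[Bp] L₁ := (MvPolynomial.aeval (R := R)
      (fun i => (1 : R) ⊗ₜ[Bp] (algebraMap U₁ L₁ (MvPolynomial.X i)))).toRingHom
    have hπ : ∀ a, π (χ a) = (1 : R) ⊗ₜ[Bp] algebraMap U₁ L₁ a := by
      intro a
      induction a using MvPolynomial.induction_on with
      | C b =>
        show MvPolynomial.aeval _ (MvPolynomial.map (algebraMap B R) (MvPolynomial.C b)) = _
        rw [MvPolynomial.map_C, MvPolynomial.aeval_C, Algebra.TensorProduct.algebraMap_apply,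
          IsScalarTower.algebraMap_apply B Bp R, ← MvPolynomial.algebraMap_eq,
          ← IsScalarTower.algebraMap_apply B U₁ L₁, IsScalarTower.algebraMap_apply B Bp L₁]
        exact ((Algebra.TensorProduct.includeRight : L₁ →ₐ[Bp] R ⊗[Bp] L₁).commutes (algebraMap B Bp b)).symm
      | add a b ha hb => simp only [map_add, ha, hb, TensorProduct.tmul_add]
      | mul_X a i ha =>
        simp only [map_mul, ha]
        rw [show π (χ (MvPolynomial.X i)) = (1 : R) ⊗ₜ[Bp] algebraMap U₁ L₁ (MvPolynomial.X i) by
          show MvPolynomial.aeval _ (MvPolynomial.map (algebraMap B R) (MvPolynomial.X i)) = _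
          rw [MvPolynomial.map_X, MvPolynomial.aeval_X], Algebra.TensorProduct.tmul_mul_tmul, one_mul]
    refine flat_of_clear q.primeCompl π _ ?_ fun w => ?_
    · refine MvPolynomial.ringHom_ext (fun r => ?_) fun i => ?_
      · show Algebra.TensorProduct.lift (IsScalarTower.toAlgHom Bp R S) (IsScalarTower.toAlgHom Bp L₁ S)
          (fun _ _ => Commute.all _ _) (MvPolynomial.aeval _ (MvPolynomial.C r)) = _
        rw [MvPolynomial.aeval_C, Algebra.TensorProduct.algebraMap_apply, Algebra.TensorProduct.lift_tmul, map_one,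
          mul_one, ← MvPolynomial.algebraMap_eq, ← IsScalarTower.algebraMap_apply R P S]
        rfl
      · show Algebra.TensorProduct.lift (IsScalarTower.toAlgHom Bp R S) (IsScalarTower.toAlgHom Bp L₁ S)
          (fun _ _ => Commute.all _ _) (MvPolynomial.aeval _ (MvPolynomial.X i)) = _
        rw [MvPolynomial.aeval_X, Algebra.TensorProduct.lift_tmul, map_one, one_mul, IsScalarTower.toAlgHom_apply,
          hL₁S]
        show algebraMap P S (MvPolynomial.map (algebraMap B R) (MvPolynomial.X i)) = _
        rw [MvPolynomial.map_X]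
    · induction w using TensorProduct.induction_on with
      | zero => exact ⟨1, one_mem _, 0, by simp⟩
      | tmul r l =>
        obtain ⟨a, t, rfl⟩ := IsLocalization.exists_mk'_eq q₁.primeCompl l
        refine ⟨χ t, t.2, algebraMap R P r * χ a, ?_⟩
        rw [hπ, map_mul, hπ, Algebra.TensorProduct.tmul_mul_tmul, one_mul, mul_comm, IsLocalization.mk'_spec,
          show π (algebraMap R P r) = r ⊗ₜ[Bp] (1 : L₁) by
            show MvPolynomial.aeval _ (MvPolynomial.C r) = _
            rw [MvPolynomial.aeval_C, Algebra.TensorProduct.algebraMap_apply]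
            rfl,
          Algebra.TensorProduct.tmul_mul_tmul, mul_one, one_mul]
      | add x y hx hy =>
        obtain ⟨t, ht, a, ha⟩ := hx
        obtain ⟨t', ht', a', ha'⟩ := hy
        exact ⟨t * t', mul_mem ht ht', t' * a + t * a', by simp only [map_mul, map_add, ← ha, ← ha']; ring⟩
  haveI : IsScalarTower U₁ L₁ S := IsScalarTower.of_algebraMap_eq fun a => by rw [hU₁S, hL₁S]
  let M₁ := L₁ ⊗[U₁] M'
  let N₁ := L₁ ⊗[U₁] N'
  haveI : Module.Flat B N₁ := by
    haveI := hflat
    exact Module.Flat.of_linearEquiv
      ((IsLocalizedModule.isBaseChange q₁.primeCompl L₁ (LocalizedModule.mkLinearMap q₁.primeCompl N')).equiv.restrictScalars B)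
  haveI : Module.Flat Bp N₁ := (Module.flat_iff_of_isLocalization Bp p.primeCompl N₁).mpr inferInstance
  letI : Module L₁ M := Module.compHom M (algebraMap L₁ S)
  haveI : IsScalarTower L₁ S M := IsScalarTower.of_algebraMap_smul fun _ _ => rfl
  haveI : IsScalarTower U₁ L₁ M := IsScalarTower.of_algebraMap_smul fun a x => by
    show algebraMap L₁ S (algebraMap U₁ L₁ a) • x = a • x
    rw [← IsScalarTower.algebraMap_apply, algebraMap_smul]
  letI : Module L₁ N := Module.compHom N (algebraMap L₁ S)
  haveI : IsScalarTower L₁ S N := IsScalarTower.of_algebraMap_smul fun _ _ => rfl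
  haveI : IsScalarTower U₁ L₁ N := IsScalarTower.of_algebraMap_smul fun a x => by
    show algebraMap L₁ S (algebraMap U₁ L₁ a) • x = a • x
    rw [← IsScalarTower.algebraMap_apply, algebraMap_smul]
  have hbM := TensorProduct.isBaseChange U₁ M' L₁
  have hbN := TensorProduct.isBaseChange U₁ N' L₁
  have hgM : IsBaseChange S (hbM.lift gM) := by
    refine IsBaseChange.of_comp hbM ?_
    convert hM using 1
    exact LinearMap.ext fun x => hbM.lift_eq _ x
  have hgN : IsBaseChange S (hbN.lift gN) := by
    refine IsBaseChange.of_comp hbN ?_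
    convert hN using 1
    exact LinearMap.ext fun x => hbN.lift_eq _ x
  refine inj_flat_of_model (A := R) hW (u'.baseChange L₁) hgM hgN u (fun x => ?_) hu
  induction x using hbM.inductionOn with
  | zero => simp
  | tmul x =>
    rw [show hbM.lift gM (TensorProduct.mk U₁ L₁ M' 1 x) = gM x from hbM.lift_eq _ x, hc,
      TensorProduct.mk_apply, LinearMap.baseChange_tmul]
    exact (hbN.lift_eq gN (u' x)).symm
  | smul l x ih => simp only [map_smul]; rw [← algebraMap_smul S l, map_smul, algebraMap_smul, ih]
  | add a b ha hb => simp only [map_add, ha, hb]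

end Groth.L02.InjFlat
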