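import Groth.Agent.L02.InjFlat.Local
import Groth.Agent.L02.CAlg.EssFP

/-!
Injectivity modulo the maximal ideal of the base gives injectivity and a flat cokernel, for modules of
finite presentation over algebras essentially of finite presentation.
-/

set_option autoImplicit false
set_option linter.style.haveILetI false
set_option maxSynthPendingDepth 3

universe u

open scoped TensorProduct
open IsLocalRing MvPolynomial

namespace Groth.L02.InjFlat

/-- Vectors of polynomials with coefficients in a subalgebra. -/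
theorem exists_lift_vec {R : Type u} [CommRing R] (R₀ : Subalgebra ℤ R) {d n : ℕ}
    (y : Fin n → MvPolynomial (Fin d) R) (h : ∀ i, ∀ c ∈ (y i).coeffs, c ∈ R₀) :
    ∃ z : Fin n → MvPolynomial (Fin d) R₀, ∀ i, MvPolynomial.map (algebraMap R₀ R) (z i) = y i := by
  have : ∀ i, y i ∈ Set.range (MvPolynomial.map (algebraMap R₀ R)) := fun i => by
    rw [MvPolynomial.mem_range_map_iff_coeffs_subset]
    intro c hc
    exact ⟨⟨c, h i c hc⟩, rfl⟩
  choose z hz using this
  exact ⟨z, hz⟩

attribute [local instance] MvPolynomial.algebraMvPolynomial in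
set_option maxHeartbeats 1600000 in
set_option synthInstance.maxHeartbeats 100000 in
/-- The criterion over a local ring of a polynomial algebra. -/
theorem inj_flat_polynomial {R S M N : Type u} [CommRing R] [IsLocalRing R] {d : ℕ}
    (q : Ideal (MvPolynomial (Fin d) R)) [q.IsPrime]
    (hq : q.comap (algebraMap R (MvPolynomial (Fin d) R)) = maximalIdeal R)
    [CommRing S] [IsLocalRing S] [Algebra (MvPolynomial (Fin d) R) S] [IsLocalization.AtPrime S q]
    [Algebra R S] [IsScalarTower R (MvPolynomial (Fin d) R) S]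
    [AddCommGroup M] [Module S M] [Module R M] [IsScalarTower R S M] [Module.FinitePresentation S M]
    [AddCommGroup N] [Module S N] [Module R N] [IsScalarTower R S N] [Module.FinitePresentation S N]
    [Module.Flat R N] (u : M →ₗ[S] N)
    (hu : ∀ x : M, u x ∈ (maximalIdeal R).map (algebraMap R S) • (⊤ : Submodule S N) →
      x ∈ (maximalIdeal R).map (algebraMap R S) • (⊤ : Submodule S M)) :
    Function.Injective u ∧ Module.Flat R (N ⧸ LinearMap.range u) := by
  classical
  let P := MvPolynomial (Fin d) R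
  letI : Module P M := Module.compHom M (algebraMap P S)
  haveI : IsScalarTower P S M := IsScalarTower.of_algebraMap_smul fun _ _ => rfl
  letI : Module P N := Module.compHom N (algebraMap P S)
  haveI : IsScalarTower P S N := IsScalarTower.of_algebraMap_smul fun _ _ => rfl
  haveI : IsScalarTower R P N := IsScalarTower.of_algebraMap_smul fun r x => by
    rw [← algebraMap_smul S (algebraMap R P r), ← IsScalarTower.algebraMap_apply R P S, algebraMap_smul]
  obtain ⟨M', _, _, ℓM, hM', hℓM⟩ := Groth.L02.EssFP.exists_module_model q.primeCompl S M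
  obtain ⟨N', _, _, ℓN, hN', hℓN⟩ := Groth.L02.EssFP.exists_module_model q.primeCompl S N
  haveI := hM'; haveI := hN'; haveI := hℓM; haveI := hℓN
  obtain ⟨f', s, hs⟩ := Module.FinitePresentation.exists_lift_of_isLocalizedModule q.primeCompl ℓN
    ((u.restrictScalars P) ∘ₗ ℓM)
  obtain ⟨nM, LM, eM, GM, hGM⟩ := Module.FinitePresentation.exists_fin P M'
  obtain ⟨nN, LN, eN, GN, hGN⟩ := Module.FinitePresentation.exists_fin P N'
  let pM : (Fin nM → P) →ₗ[P] M' := eM.symm.toLinearMap ∘ₗ LM.mkQ
  let pN : (Fin nN → P) →ₗ[P] N' := eN.symm.toLinearMap ∘ₗ LN.mkQ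
  have hpM : Function.Surjective pM := eM.symm.surjective.comp (Submodule.mkQ_surjective _)
  have hpN : Function.Surjective pN := eN.symm.surjective.comp (Submodule.mkQ_surjective _)
  choose v hv using fun i => hpN (f' (pM (Pi.single i 1)))
  have hφ : ∀ y : Fin nM → P, pN (Fintype.linearCombination P v y) = f' (pM y) := by
    intro y
    show (pN ∘ₗ Fintype.linearCombination P v) y = (f' ∘ₗ pM) y
    congr 1
    refine LinearMap.pi_ext' fun i => LinearMap.ext_ring ?_
    show pN (Fintype.linearCombination P v (Pi.single i 1)) = f' (pM (Pi.single i 1))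
    rw [Fintype.linearCombination_apply_single, one_smul, hv]
  -- the Noetherian base
  let Wc : Finset R := (GM.biUnion fun y => Finset.univ.biUnion fun i => (y i).coeffs) ∪
    (GN.biUnion fun y => Finset.univ.biUnion fun i => (y i).coeffs) ∪
    (Finset.univ.biUnion fun j : Fin nM => Finset.univ.biUnion fun i => (v j i).coeffs)
  let R₀ := Algebra.adjoin ℤ (Wc : Set R)
  haveI : IsNoetherianRing R₀ := by
    haveI : Algebra.FiniteType ℤ R₀ := R₀.fg_iff_finiteType.mp ⟨Wc, rfl⟩
    exact Algebra.FiniteType.isNoetherianRing ℤ R₀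
  have hWc : ∀ c ∈ Wc, c ∈ R₀ := fun c hc => Algebra.subset_adjoin hc
  choose! zM hzM using fun y (hy : y ∈ GM) => exists_lift_vec R₀ y fun i c hc => hWc c
    (Finset.mem_union_left _ (Finset.mem_union_left _ (Finset.mem_biUnion.mpr ⟨y, hy,
      Finset.mem_biUnion.mpr ⟨i, Finset.mem_univ _, hc⟩⟩)))
  choose! zN hzN using fun y (hy : y ∈ GN) => exists_lift_vec R₀ y fun i c hc => hWc c
    (Finset.mem_union_left _ (Finset.mem_union_right _ (Finset.mem_biUnion.mpr ⟨y, hy,
      Finset.mem_biUnion.mpr ⟨i, Finset.mem_univ _, hc⟩⟩)))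
  choose v₀ hv₀ using fun j => exists_lift_vec R₀ (v j) fun i c hc => hWc c
    (Finset.mem_union_right _ (Finset.mem_biUnion.mpr ⟨j, Finset.mem_univ _,
      Finset.mem_biUnion.mpr ⟨i, Finset.mem_univ _, hc⟩⟩))
  let U₀ := MvPolynomial (Fin d) R₀
  let KM : Submodule U₀ (Fin nM → U₀) := Submodule.span U₀ (zM '' (GM : Set (Fin nM → P)))
  let φ₀ : (Fin nM → U₀) →ₗ[U₀] (Fin nN → U₀) := Fintype.linearCombination U₀ v₀
  let KN : Submodule U₀ (Fin nN → U₀) := Submodule.span U₀ (zN '' (GN : Set (Fin nN → P))) ⊔ KM.map φ₀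
  let u₀ : ((Fin nM → U₀) ⧸ KM) →ₗ[U₀] ((Fin nN → U₀) ⧸ KN) :=
    KM.mapQ KN φ₀ fun x hx => Submodule.mem_sup_right ⟨x, hx, rfl⟩
  letI : Module U₀ M' := Module.compHom M' (algebraMap U₀ P)
  haveI : IsScalarTower U₀ P M' := IsScalarTower.of_algebraMap_smul fun _ _ => rfl
  letI : Module U₀ N' := Module.compHom N' (algebraMap U₀ P)
  haveI : IsScalarTower U₀ P N' := IsScalarTower.of_algebraMap_smul fun _ _ => rfl
  let jM : (Fin nM → U₀) →ₗ[U₀] (Fin nM → P) := (Algebra.linearMap U₀ P).compLeft (Fin nM)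
  let jN : (Fin nN → U₀) →ₗ[U₀] (Fin nN → P) := (Algebra.linearMap U₀ P).compLeft (Fin nN)
  have hjφ : ∀ x, jN (φ₀ x) = Fintype.linearCombination P v (jM x) := by
    intro x
    funext k
    show algebraMap U₀ P (φ₀ x k) = Fintype.linearCombination P v (jM x) k
    simp only [φ₀, Fintype.linearCombination_apply, Finset.sum_apply, Pi.smul_apply, smul_eq_mul, map_sum, map_mul]
    exact Finset.sum_congr rfl fun i _ => congrArg₂ (· * ·) rfl (hv₀ i k)
  have hjM : ∀ y ∈ GM, jM (zM y) = y := fun y hy => funext (hzM y hy)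
  have hjN : ∀ y ∈ GN, jN (zN y) = y := fun y hy => funext (hzN y hy)
  have hkM : ∀ y ∈ LM, pM y = 0 := fun y hy => by
    show eM.symm (LM.mkQ y) = 0
    rw [Submodule.mkQ_apply, (Submodule.Quotient.mk_eq_zero LM).mpr hy, map_zero]
  have hkN : ∀ y ∈ LN, pN y = 0 := fun y hy => by
    show eN.symm (LN.mkQ y) = 0
    rw [Submodule.mkQ_apply, (Submodule.Quotient.mk_eq_zero LN).mpr hy, map_zero]
  have hleM : KM ≤ LinearMap.ker ((pM.restrictScalars U₀) ∘ₗ jM) := by
    rw [Submodule.span_le]
    rintro _ ⟨y, hy, rfl⟩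
    show pM (jM (zM y)) = 0
    rw [hjM y hy]
    exact hkM y (hGM ▸ Submodule.subset_span hy)
  have hleN : KN ≤ LinearMap.ker ((pN.restrictScalars U₀) ∘ₗ jN) := by
    refine sup_le ?_ ?_
    · rw [Submodule.span_le]
      rintro _ ⟨y, hy, rfl⟩
      show pN (jN (zN y)) = 0
      rw [hjN y hy]
      exact hkN y (hGN ▸ Submodule.subset_span hy)
    · rintro _ ⟨x, hx, rfl⟩
      show pN (jN (φ₀ x)) = 0
      rw [hjφ, hφ, show pM (jM x) = 0 from hleM hx, map_zero]
  let gM₀ : ((Fin nM → U₀) ⧸ KM) →ₗ[U₀] M' := KM.liftQ _ hleM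
  let gN₀ : ((Fin nN → U₀) ⧸ KN) →ₗ[U₀] N' := KN.liftQ _ hleN
  have hgM₀ : IsBaseChange P gM₀ := by
    refine Groth.L20.FibreCrit.isBaseChange_quotient ((IsBaseChange.linearMap U₀ P).finitePow (Fin nM))
      KM.mkQ (Submodule.mkQ_surjective _) pM hpM gM₀ (fun x => rfl) fun y hy => ?_
    have hyL : y ∈ LM := (Submodule.Quotient.mk_eq_zero LM).mp (eM.symm.map_eq_zero_iff.mp hy)
    rw [← hGM] at hyL
    refine (Submodule.span_le.mpr ?_) hyL
    intro g hg
    exact Submodule.subset_span ⟨zM g, by rw [SetLike.mem_coe, Submodule.ker_mkQ]; exact Submodule.subset_span ⟨g, hg, rfl⟩, hjM g hg⟩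
  have hgN₀ : IsBaseChange P gN₀ := by
    refine Groth.L20.FibreCrit.isBaseChange_quotient ((IsBaseChange.linearMap U₀ P).finitePow (Fin nN))
      KN.mkQ (Submodule.mkQ_surjective _) pN hpN gN₀ (fun x => rfl) fun y hy => ?_
    have hyL : y ∈ LN := (Submodule.Quotient.mk_eq_zero LN).mp (eN.symm.map_eq_zero_iff.mp hy)
    rw [← hGN] at hyL
    refine (Submodule.span_le.mpr ?_) hyL
    intro g hg
    exact Submodule.subset_span ⟨zN g, by
      rw [SetLike.mem_coe, Submodule.ker_mkQ]
      exact Submodule.mem_sup_left (Submodule.subset_span ⟨g, hg, rfl⟩), hjN g hg⟩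
  have hu₀ : ∀ x, f' (gM₀ x) = gN₀ (u₀ x) := by
    intro x
    obtain ⟨x, rfl⟩ := Submodule.Quotient.mk_surjective _ x
    show f' (pM (jM x)) = pN (jN (φ₀ x))
    rw [hjφ, hφ]
  -- flatness at a finitely generated stage
  letI : Module R N' := Module.compHom N' (algebraMap R P)
  haveI : IsScalarTower R P N' := IsScalarTower.of_algebraMap_smul fun _ _ => rfl
  haveI : IsScalarTower R₀ R N' := IsScalarTower.of_algebraMap_smul fun _ _ => rfl
  haveI : IsScalarTower R₀ U₀ N' := IsScalarTower.of_algebraMap_smul fun r x => by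
    show algebraMap U₀ P (algebraMap R₀ U₀ r) • x = algebraMap R P (algebraMap R₀ R r) • x
    rw [← IsScalarTower.algebraMap_apply R₀ U₀ P, ← IsScalarTower.algebraMap_apply R₀ R P]
  haveI : Module.Flat R (LocalizedModule q.primeCompl N') :=
    Module.Flat.of_linearEquiv ((IsLocalizedModule.iso q.primeCompl ℓN).restrictScalars R)
  haveI : Algebra.IsPushout R₀ R U₀ P := inferInstance
  obtain ⟨B, hB, hstage⟩ := Groth.L20.FibreCrit.exists_flat_stage_tensor (R₀ := R₀) (A := R) gN₀ hgN₀ q.primeCompl
  haveI : Algebra.FiniteType R₀ B := B.fg_iff_finiteType.mp hB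
  haveI : IsNoetherianRing B := Algebra.FiniteType.isNoetherianRing R₀ B
  let U₁ := MvPolynomial (Fin d) B
  let χ : U₁ →+* P := MvPolynomial.map (algebraMap B R)
  have hχ₀ : ∀ a, χ (algebraMap U₀ U₁ a) = algebraMap U₀ P a := fun a => by
    show MvPolynomial.map (algebraMap B R) (MvPolynomial.map (algebraMap R₀ B) a) = MvPolynomial.map (algebraMap R₀ R) a
    rw [MvPolynomial.map_map, ← IsScalarTower.algebraMap_eq]
  have hχB : ∀ b, χ (algebraMap B U₁ b) = algebraMap R P (algebraMap B R b) := fun b => MvPolynomial.map_C _ _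
  have hflat := hstage U₁ χ hχB hχ₀
  haveI := hflat
  letI : Algebra U₁ S := ((algebraMap P S).comp χ).toAlgebra
  letI : Module U₁ M' := Module.compHom M' χ
  letI : Module U₁ N' := Module.compHom N' χ
  letI : Algebra U₀ S := ((algebraMap P S).comp (algebraMap U₀ P)).toAlgebra
  haveI : IsScalarTower U₀ P S := IsScalarTower.of_algebraMap_eq fun _ => rfl
  haveI : IsScalarTower U₀ U₁ S := IsScalarTower.of_algebraMap_eq fun a => by
    show algebraMap P S (algebraMap U₀ P a) = algebraMap P S (χ (algebraMap U₀ U₁ a))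
    rw [hχ₀]
  letI : Module U₀ M := Module.compHom M (algebraMap U₀ S)
  haveI : IsScalarTower U₀ S M := IsScalarTower.of_algebraMap_smul fun _ _ => rfl
  haveI : IsScalarTower U₀ P M := IsScalarTower.of_algebraMap_smul fun _ _ => rfl
  letI : Module U₁ M := Module.compHom M (algebraMap U₁ S)
  haveI : IsScalarTower U₁ S M := IsScalarTower.of_algebraMap_smul fun _ _ => rfl
  haveI : IsScalarTower U₀ U₁ M := IsScalarTower.of_algebraMap_smul fun a x => by
    show algebraMap P S (χ (algebraMap U₀ U₁ a)) • x = algebraMap P S (algebraMap U₀ P a) • x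
    rw [hχ₀]
  letI : Module U₀ N := Module.compHom N (algebraMap U₀ S)
  haveI : IsScalarTower U₀ S N := IsScalarTower.of_algebraMap_smul fun _ _ => rfl
  haveI : IsScalarTower U₀ P N := IsScalarTower.of_algebraMap_smul fun _ _ => rfl
  letI : Module U₁ N := Module.compHom N (algebraMap U₁ S)
  haveI : IsScalarTower U₁ S N := IsScalarTower.of_algebraMap_smul fun _ _ => rfl
  haveI : IsScalarTower U₀ U₁ N := IsScalarTower.of_algebraMap_smul fun a x => by
    show algebraMap P S (χ (algebraMap U₀ U₁ a)) • x = algebraMap P S (algebraMap U₀ P a) • x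
    rw [hχ₀]
  have hbM := TensorProduct.isBaseChange U₀ ((Fin nM → U₀) ⧸ KM) U₁
  have hbN := TensorProduct.isBaseChange U₀ ((Fin nN → U₀) ⧸ KN) U₁
  have hgM : IsBaseChange S (hbM.lift ((ℓM.restrictScalars U₀) ∘ₗ gM₀)) := by
    refine IsBaseChange.of_comp hbM ?_
    convert hgM₀.comp (IsLocalizedModule.isBaseChange q.primeCompl S ℓM) using 1
    exact LinearMap.ext fun x => hbM.lift_eq _ x
  have hgN : IsBaseChange S (hbN.lift ((ℓN.restrictScalars U₀) ∘ₗ gN₀)) := by
    refine IsBaseChange.of_comp hbN ?_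
    convert hgN₀.comp (IsLocalizedModule.isBaseChange q.primeCompl S ℓN) using 1
    exact LinearMap.ext fun x => hbN.lift_eq _ x
  have hsu : IsUnit (algebraMap P S s) := IsLocalization.map_units S s
  have hc : ∀ x, (algebraMap P S s • u) (hbM.lift ((ℓM.restrictScalars U₀) ∘ₗ gM₀) x) =
      hbN.lift ((ℓN.restrictScalars U₀) ∘ₗ gN₀) (u₀.baseChange U₁ x) := by
    intro x
    induction x using hbM.inductionOn with
    | zero => simp
    | tmul x =>
      rw [show hbM.lift ((ℓM.restrictScalars U₀) ∘ₗ gM₀) (TensorProduct.mk U₀ U₁ _ 1 x) = ℓM (gM₀ x) from hbM.lift_eq _ x,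
        TensorProduct.mk_apply, LinearMap.baseChange_tmul,
        show hbN.lift ((ℓN.restrictScalars U₀) ∘ₗ gN₀) ((1 : U₁) ⊗ₜ[U₀] u₀ x) = ℓN (gN₀ (u₀ x)) from hbN.lift_eq _ _,
        ← hu₀, LinearMap.smul_apply, algebraMap_smul]
      exact (LinearMap.congr_fun hs (gM₀ x)).symm
    | smul l x ih => simp only [map_smul]; rw [← algebraMap_smul S l, map_smul, algebraMap_smul, ih]
    | add a b ha hb => simp only [map_add, ha, hb]
  obtain ⟨hinj, hfl⟩ := inj_flat_of_stage (B := B) q hq (fun _ => rfl) hflat (u₀.baseChange U₁) hgM hgN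
    (algebraMap P S s • u) hc fun x hx => hu x (by
    have h2 := Submodule.smul_mem _ (↑hsu.unit⁻¹ : S) hx
    rwa [LinearMap.smul_apply, smul_smul, IsUnit.val_inv_mul, one_smul] at h2)
  refine ⟨fun a b hab => hinj (by rw [LinearMap.smul_apply, LinearMap.smul_apply, hab]), ?_⟩
  have hrange : LinearMap.range (algebraMap P S s • u) = LinearMap.range u := by
    ext y
    constructor
    · rintro ⟨x, rfl⟩
      exact ⟨algebraMap P S s • x, by rw [map_smul, LinearMap.smul_apply]⟩
    · rintro ⟨x, rfl⟩
      exact ⟨(↑hsu.unit⁻¹ : S) • x, by rw [LinearMap.smul_apply, map_smul, smul_smul, IsUnit.mul_val_inv, one_smul]⟩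
  exact Module.Flat.of_linearEquiv ((Submodule.quotEquivOfEq _ _ hrange.symm).restrictScalars R)

/-- A map injective modulo the maximal ideal of the base into a flat module is injective with flat
cokernel. -/
theorem inj_flat {R S M N : Type u} [CommRing R] [CommRing S] [IsLocalRing R]
    [IsLocalRing S] [Algebra R S] [IsLocalHom (algebraMap R S)] (hS : CAlgX.IsEssFinitePresentation R S)
    [AddCommGroup M] [Module S M] [Module R M] [IsScalarTower R S M] [Module.FinitePresentation S M]
    [AddCommGroup N] [Module S N] [Module R N] [IsScalarTower R S N] [Module.FinitePresentation S N] [Module.Flat R N]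
    (u : M →ₗ[S] N)
    (hu : ∀ x : M, u x ∈ (maximalIdeal R).map (algebraMap R S) • (⊤ : Submodule S N) →
      x ∈ (maximalIdeal R).map (algebraMap R S) • (⊤ : Submodule S M)) :
    Function.Injective u ∧ Module.Flat R (N ⧸ LinearMap.range u) := by
  classical
  obtain ⟨S₀, _, _, _, _, MS, hfp, hloc⟩ := hS
  haveI := hfp; haveI := hloc
  obtain ⟨d, π, hπ, hker⟩ := Algebra.FinitePresentation.out (R := R) (A := S₀)
  let P := MvPolynomial (Fin d) R
  let q₀ := (maximalIdeal S).comap (algebraMap S₀ S)
  haveI : IsLocalization.AtPrime S q₀ := Groth.L02.EssFP.atPrime_of_isLocalRing MS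
  let q := q₀.comap π.toRingHom
  haveI : q.IsPrime := Ideal.IsPrime.comap _
  have hq : q.comap (algebraMap R P) = maximalIdeal R := by
    ext r
    show algebraMap S₀ S (π (algebraMap R P r)) ∈ maximalIdeal S ↔ r ∈ maximalIdeal R
    rw [π.commutes, ← IsScalarTower.algebraMap_apply]
    exact ⟨fun h hu' => h (hu'.map _), fun h => map_nonunit (algebraMap R S) r h⟩
  let L := Localization.AtPrime q
  let σ : L →+* S := IsLocalization.map S π.toRingHom (M := q.primeCompl) (T := q₀.primeCompl) (fun x hx => hx)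
  letI := σ.toAlgebra
  have hcompl : Submonoid.map π.toRingHom q.primeCompl = q₀.primeCompl := by
    rw [show q.primeCompl = q₀.primeCompl.comap π.toRingHom from SetLike.ext fun _ => Iff.rfl]
    exact Submonoid.map_comap_eq_of_surjective (f := π.toRingHom) hπ _
  have hσs : Function.Surjective σ := by
    intro z
    obtain ⟨a, t, rfl⟩ := IsLocalization.exists_mk'_eq q₀.primeCompl z
    obtain ⟨a, rfl⟩ := hπ a
    obtain ⟨t', ht'⟩ := hπ t
    refine ⟨IsLocalization.mk' L a (⟨t', show π t' ∉ q₀ from ht'.symm ▸ t.2⟩ : q.primeCompl), ?_⟩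
    refine (IsLocalization.map_mk' _ a _).trans ?_
    exact congrArg (IsLocalization.mk' S (π a)) (Subtype.ext ht')
  haveI : IsScalarTower R L S := IsScalarTower.of_algebraMap_eq fun r => by
    rw [IsScalarTower.algebraMap_apply R P L, show algebraMap L S (algebraMap P L (algebraMap R P r)) = _ from
      IsLocalization.map_eq _ (algebraMap R P r), IsScalarTower.algebraMap_apply R S₀ S]
    exact congrArg _ (π.commutes r).symm
  have hkerσ : (RingHom.ker σ).FG := by
    haveI : IsLocalization (q.primeCompl.map π.toRingHom) S := by rw [hcompl]; infer_instance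
    rw [IsLocalization.ker_map S π.toRingHom hcompl (S := L) (M := q.primeCompl)]
    exact Ideal.FG.map hker _
  haveI : Module.FinitePresentation L S :=
    Module.finitePresentation_of_surjective (Algebra.linearMap L S) hσs (by
      exact hkerσ)
  letI : Module L M := Module.compHom M σ
  haveI : IsScalarTower L S M := IsScalarTower.of_algebraMap_smul fun _ _ => rfl
  haveI : IsScalarTower R L M := IsScalarTower.of_algebraMap_smul fun r x => by
    rw [← algebraMap_smul S (algebraMap R L r), ← IsScalarTower.algebraMap_apply R L S, algebraMap_smul]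
  letI : Module L N := Module.compHom N σ
  haveI : IsScalarTower L S N := IsScalarTower.of_algebraMap_smul fun _ _ => rfl
  haveI : IsScalarTower R L N := IsScalarTower.of_algebraMap_smul fun r x => by
    rw [← algebraMap_smul S (algebraMap R L r), ← IsScalarTower.algebraMap_apply R L S, algebraMap_smul]
  haveI : Module.FinitePresentation L M := Module.FinitePresentation.trans L M S
  haveI : Module.FinitePresentation L N := Module.FinitePresentation.trans L N S
  obtain ⟨h1, h2⟩ := inj_flat_polynomial (S := L) q hq (u.restrictScalars L) fun x hx => by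
    rw [← mem_smul_top_iff (R := R)] at hx ⊢
    rw [mem_smul_top_iff (S := S)] at hx ⊢
    exact hu x hx
  refine ⟨h1, ?_⟩
  haveI := h2
  exact Module.Flat.of_linearEquiv
    (((Submodule.Quotient.restrictScalarsEquiv L (LinearMap.range u)).symm ≪≫ₗ
      Submodule.quotEquivOfEq _ _ (LinearMap.range_restrictScalars (R := L) u).symm).restrictScalars R)

end Groth.L02.InjFlat
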