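import Groth.Agent.L20.UnivInj
import Groth.Agent.L20.FibreDescent
import Groth.Agent.L20.ModPullback

/-!
Injectivity and flatness of the cokernel from a Noetherian model, given injectivity modulo the
maximal ideal of the base.
-/

set_option autoImplicit false
set_option linter.style.haveILetI false
set_option maxSynthPendingDepth 3

universe u

open scoped TensorProduct
open IsLocalRing

namespace Groth.L02.InjFlat

section Nat

variable {R S M N M' N' : Type*} [CommRing R] [CommRing S] [Algebra R S]
  [AddCommGroup M] [Module R M] [AddCommGroup N] [Module R N]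
  [AddCommGroup M'] [Module R M'] [Module S M'] [IsScalarTower R S M']
  [AddCommGroup N'] [Module R N'] [Module S N'] [IsScalarTower R S N']

/-- Injectivity of a base changed map. -/
theorem injective_baseChange_iff (f : M →ₗ[R] N) {gM : M →ₗ[R] M'} (hM : IsBaseChange S gM)
    {gN : N →ₗ[R] N'} (hN : IsBaseChange S gN) (f' : M' →ₗ[S] N') (hc : ∀ x, f' (gM x) = gN (f x)) :
    Function.Injective (f.lTensor S) ↔ Function.Injective f' := by
  have h : ∀ z, f' (hM.equiv z) = hN.equiv (f.lTensor S z) := by
    intro z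
    induction z using TensorProduct.induction_on with
    | zero => simp
    | tmul s x => simp [hM.equiv_tmul, hN.equiv_tmul, hc]
    | add a b ha hb => simp only [map_add, ha, hb]
  constructor
  · intro hi a b hab
    obtain ⟨a, rfl⟩ := hM.equiv.surjective a
    obtain ⟨b, rfl⟩ := hM.equiv.surjective b
    rw [h, h] at hab
    exact congrArg _ (hi (hN.equiv.injective hab))
  · intro hi a b hab
    exact hM.equiv.injective (hi (by rw [h, h, hab]))

/-- Injectivity after a further base change. -/
theorem injective_lTensor_lTensor_iff {T : Type*} [CommRing T] [Algebra R T] [Algebra S T] [IsScalarTower R S T]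
    (f : M →ₗ[R] N) :
    Function.Injective ((f.baseChange S).lTensor T) ↔ Function.Injective (f.lTensor T) := by
  let eM := TensorProduct.AlgebraTensorModule.cancelBaseChange R S S T M
  let eN := TensorProduct.AlgebraTensorModule.cancelBaseChange R S S T N
  have h : ∀ z, eN ((f.baseChange S).lTensor T z) = f.lTensor T (eM z) := by
    intro z
    induction z using TensorProduct.induction_on with
    | zero => simp
    | tmul t w =>
      induction w using TensorProduct.induction_on with
      | zero => simp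
      | tmul s x => simp [eM, eN, LinearMap.baseChange_tmul]
      | add a b ha hb => simp only [TensorProduct.tmul_add, map_add, ha, hb]
    | add a b ha hb => simp only [map_add, ha, hb]
  constructor
  · intro hi a b hab
    obtain ⟨a, rfl⟩ := eM.surjective a
    obtain ⟨b, rfl⟩ := eM.surjective b
    exact congrArg _ (hi (eN.injective (by rw [h, h, hab])))
  · intro hi a b hab
    exact eM.injective (hi (by rw [← h, ← h, hab]))

/-- The cokernel of a base changed map. -/
theorem isBaseChange_coker (f : M →ₗ[R] N) {gM : M →ₗ[R] M'} (hM : IsBaseChange S gM)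
    {gN : N →ₗ[R] N'} (hN : IsBaseChange S gN) (f' : M' →ₗ[S] N') (hc : ∀ x, f' (gM x) = gN (f x)) :
    ∃ g : (N ⧸ LinearMap.range f) →ₗ[R] (N' ⧸ LinearMap.range f'), IsBaseChange S g := by
  have hle : LinearMap.range f ≤ LinearMap.ker (((LinearMap.range f').mkQ.restrictScalars R) ∘ₗ gN) := by
    rintro _ ⟨x, rfl⟩
    exact (Submodule.Quotient.mk_eq_zero _).mpr ⟨gM x, hc x⟩
  refine ⟨(LinearMap.range f).liftQ _ hle, Groth.L20.FibreCrit.isBaseChange_quotient hN
    (LinearMap.range f).mkQ (Submodule.mkQ_surjective _) (LinearMap.range f').mkQ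
    (Submodule.mkQ_surjective _) _ (fun x => rfl) ?_⟩
  rw [Submodule.ker_mkQ, Submodule.ker_mkQ]
  rintro _ ⟨y, rfl⟩
  induction y using hM.inductionOn with
  | zero => simp
  | tmul x => rw [hc]; exact Submodule.subset_span ⟨f x, ⟨x, rfl⟩, rfl⟩
  | smul s y ih => rw [map_smul]; exact Submodule.smul_mem _ s ih
  | add a b ha hb => rw [map_add]; exact add_mem ha hb

end Nat

/-- Membership in `I M` over either ring. -/
theorem mem_smul_top_iff {R S M : Type*} [CommRing R] [CommRing S] [Algebra R S] [AddCommGroup M] [Module R M]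
    [Module S M] [IsScalarTower R S M] (I : Ideal R) (x : M) :
    x ∈ I • (⊤ : Submodule R M) ↔ x ∈ I.map (algebraMap R S) • (⊤ : Submodule S M) := by
  rw [← Submodule.restrictScalars_mem R (I.map (algebraMap R S) • (⊤ : Submodule S M)), Ideal.smul_restrictScalars]
  rfl

set_option maxHeartbeats 1000000 in
/-- The criterion given a Noetherian model. -/
theorem inj_flat_of_model {R₁ L₁ A S M₁ N₁ M N : Type u}
    [CommRing R₁] [IsLocalRing R₁] [CommRing L₁] [IsNoetherianRing L₁] [IsLocalRing L₁]
    [Algebra R₁ L₁] [IsLocalHom (algebraMap R₁ L₁)]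
    [CommRing A] [IsLocalRing A] [Algebra R₁ A] [IsLocalHom (algebraMap R₁ A)]
    [CommRing S] [IsLocalRing S] [Algebra A S] [Algebra L₁ S] [IsLocalHom (algebraMap A S)]
    [IsLocalHom (algebraMap L₁ S)] [Algebra R₁ S] [IsScalarTower R₁ A S] [IsScalarTower R₁ L₁ S]
    (hW : (Algebra.TensorProduct.lift (IsScalarTower.toAlgHom R₁ A S) (IsScalarTower.toAlgHom R₁ L₁ S)
      fun _ _ => Commute.all _ _).toRingHom.Flat)
    [AddCommGroup M₁] [Module L₁ M₁] [Module R₁ M₁] [IsScalarTower R₁ L₁ M₁] [Module.Finite L₁ M₁]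
    [AddCommGroup N₁] [Module L₁ N₁] [Module R₁ N₁] [IsScalarTower R₁ L₁ N₁]
    [Module.Flat R₁ N₁] (u₁ : M₁ →ₗ[L₁] N₁)
    [AddCommGroup M] [Module S M] [Module A M] [IsScalarTower A S M] [Module L₁ M] [IsScalarTower L₁ S M]
    [AddCommGroup N] [Module S N] [Module A N] [IsScalarTower A S N] [Module L₁ N] [IsScalarTower L₁ S N]
    {gM : M₁ →ₗ[L₁] M} (hM : IsBaseChange S gM) {gN : N₁ →ₗ[L₁] N} (hN : IsBaseChange S gN)
    (u : M →ₗ[S] N) (hc : ∀ x, u (gM x) = gN (u₁ x))
    (hu : ∀ x : M, u x ∈ (maximalIdeal A).map (algebraMap A S) • (⊤ : Submodule S N) →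
      x ∈ (maximalIdeal A).map (algebraMap A S) • (⊤ : Submodule S M)) :
    Function.Injective u ∧ Module.Flat A (N ⧸ LinearMap.range u) := by
  letI : Algebra L₁ (A ⊗[R₁] L₁) := Algebra.TensorProduct.rightAlgebra
  let W := A ⊗[R₁] L₁
  letI : Algebra W S := (Algebra.TensorProduct.lift (IsScalarTower.toAlgHom R₁ A S)
    (IsScalarTower.toAlgHom R₁ L₁ S) fun _ _ => Commute.all _ _).toRingHom.toAlgebra
  haveI : Module.Flat W S := hW
  haveI : IsScalarTower A W S := IsScalarTower.of_algebraMap_eq fun a => by
    show algebraMap A S a = Algebra.TensorProduct.lift _ _ _ (a ⊗ₜ[R₁] (1 : L₁))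
    simp
  haveI : IsScalarTower L₁ W S := IsScalarTower.of_algebraMap_eq fun a => by
    show algebraMap L₁ S a = Algebra.TensorProduct.lift _ _ _ ((1 : A) ⊗ₜ[R₁] a)
    simp
  haveI : Algebra.IsPushout R₁ A L₁ W := inferInstance
  -- the fibres
  let K := A ⧸ maximalIdeal A
  letI : Field K := Ideal.Quotient.field _
  letI : Algebra W (K ⊗[A] W) := Algebra.TensorProduct.rightAlgebra
  letI : Algebra S (K ⊗[A] S) := Algebra.TensorProduct.rightAlgebra
  let C := K ⊗[A] W
  let Z := K ⊗[A] S
  letI : Algebra C Z := (Algebra.TensorProduct.map (AlgHom.id A K) (IsScalarTower.toAlgHom A W S)).toRingHom.toAlgebra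
  letI : Algebra W Z := ((algebraMap S Z).comp (algebraMap W S)).toAlgebra
  haveI : IsScalarTower W S Z := IsScalarTower.of_algebraMap_eq fun x => rfl
  haveI : IsScalarTower W C Z := IsScalarTower.of_algebraMap_eq fun x => by
    show (1 : K) ⊗ₜ[A] algebraMap W S x = Algebra.TensorProduct.map _ _ ((1 : K) ⊗ₜ[A] x)
    rw [Algebra.TensorProduct.map_tmul]; rfl
  haveI : IsScalarTower K C Z := IsScalarTower.of_algebraMap_eq fun x => by
    show x ⊗ₜ[A] (1 : S) = Algebra.TensorProduct.map _ _ (x ⊗ₜ[A] (1 : W))
    rw [Algebra.TensorProduct.map_tmul, map_one, AlgHom.id_apply]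
  haveI : IsScalarTower A W Z := IsScalarTower.of_algebraMap_eq fun x => by
    rw [IsScalarTower.algebraMap_apply W S Z, ← IsScalarTower.algebraMap_apply A W S,
      ← IsScalarTower.algebraMap_apply A S Z]
  haveI : Algebra.IsPushout A W K C := .symm inferInstance
  haveI : Algebra.IsPushout A S K Z := .symm inferInstance
  haveI : Algebra.IsPushout W S C Z :=
    (Algebra.IsPushout.comp_iff (R := A) (S := W) (R' := K) (S' := C) (T := S) (T' := Z)).mp inferInstance
  haveI : Algebra.IsPushout W C S Z := .symm inferInstance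
  haveI : Module.Flat C Z := Module.Flat.isBaseChange _ _ _ _ (Algebra.IsPushout.out (R := W) (S := C) (R' := S) (S' := Z))
  letI : Algebra L₁ C := ((algebraMap W C).comp (algebraMap L₁ W)).toAlgebra
  haveI : IsScalarTower L₁ W C := IsScalarTower.of_algebraMap_eq fun x => rfl
  haveI : IsScalarTower R₁ L₁ C := IsScalarTower.of_algebraMap_eq fun x => by
    show algebraMap R₁ C x = algebraMap W C (algebraMap L₁ W (algebraMap R₁ L₁ x))
    rw [← IsScalarTower.algebraMap_apply R₁ L₁ W, IsScalarTower.algebraMap_apply R₁ A W,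
      ← IsScalarTower.algebraMap_apply A W C, ← IsScalarTower.algebraMap_apply R₁ A C]
  haveI : IsScalarTower R₁ W C := IsScalarTower.of_algebraMap_eq fun x => by
    rw [IsScalarTower.algebraMap_apply R₁ A C, IsScalarTower.algebraMap_apply A W C,
      ← IsScalarTower.algebraMap_apply R₁ A W]
  haveI : Algebra.IsPushout R₁ K L₁ C := by
    haveI : Algebra.IsPushout A K W C := .symm inferInstance
    exact (Algebra.IsPushout.comp_iff (R := R₁) (S := A) (R' := L₁) (S' := W) (T := K) (T' := C)).mpr inferInstance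
  obtain ⟨χ, hχ, hχflat⟩ := Groth.L20.FibreCrit.exists_flat_hom_fibre (X := L₁) (Y := C) (maximalIdeal R₁)
    (show RingHom.ker (algebraMap R₁ K) = maximalIdeal R₁ by
      rw [IsScalarTower.algebraMap_eq R₁ A K, ← RingHom.comap_ker, Ideal.Quotient.algebraMap_eq, Ideal.mk_ker,
        maximalIdeal_comap (algebraMap R₁ A)])
  let P := L₁ ⧸ (maximalIdeal R₁).map (algebraMap R₁ L₁)
  letI : Algebra P C := χ.toAlgebra
  haveI : Module.Flat P C := hχflat
  letI : Algebra P Z := ((algebraMap C Z).comp χ).toAlgebra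
  haveI : IsScalarTower P C Z := IsScalarTower.of_algebraMap_eq fun x => rfl
  haveI : Module.Flat P Z := Module.Flat.trans P C Z
  letI : Algebra L₁ Z := ((algebraMap S Z).comp (algebraMap L₁ S)).toAlgebra
  haveI : IsScalarTower L₁ S Z := IsScalarTower.of_algebraMap_eq fun x => rfl
  haveI : IsScalarTower L₁ P Z := IsScalarTower.of_algebraMap_eq fun x => by
    show algebraMap S Z (algebraMap L₁ S x) = algebraMap C Z (χ (Ideal.Quotient.mk _ x))
    rw [show χ (Ideal.Quotient.mk _ x) = algebraMap L₁ C x from RingHom.congr_fun hχ x,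
      IsScalarTower.algebraMap_apply L₁ W C, ← IsScalarTower.algebraMap_apply W C Z,
      IsScalarTower.algebraMap_apply W S Z, ← IsScalarTower.algebraMap_apply L₁ W S]
  haveI : Module.FaithfullyFlat P Z := by
    refine ⟨fun 𝔪 h𝔪 h => ?_⟩
    let ζ : Z →ₐ[A] ResidueField S := Algebra.TensorProduct.lift
      (AlgHom.liftOfSurjective (Algebra.ofId A K) Ideal.Quotient.mk_surjective (Algebra.ofId A (ResidueField S))
        (fun a ha => by
          rw [RingHom.mem_ker] at ha ⊢
          show algebraMap A (ResidueField S) a = 0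
          rw [IsScalarTower.algebraMap_apply A S (ResidueField S), ResidueField.algebraMap_eq,
            residue_eq_zero_iff]
          exact map_nonunit (algebraMap A S) a (Ideal.Quotient.eq_zero_iff_mem.mp ha)))
      (IsScalarTower.toAlgHom A S (ResidueField S)) fun _ _ => Commute.all _ _
    have hζ : ∀ z ∈ (𝔪 • ⊤ : Submodule P Z), ζ z = 0 := by
      intro z hz
      refine Submodule.smul_induction_on hz (fun r hr w _ => ?_) (fun a b ha hb => by rw [map_add, ha, hb, add_zero])
      obtain ⟨r, rfl⟩ := Ideal.Quotient.mk_surjective r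
      have hr' : r ∈ maximalIdeal L₁ := IsLocalRing.le_maximalIdeal
        (Ideal.comap_ne_top _ h𝔪.ne_top) (show r ∈ 𝔪.comap (Ideal.Quotient.mk _) from hr)
      rw [Algebra.smul_def, map_mul, show algebraMap P Z (Ideal.Quotient.mk _ r) = algebraMap L₁ Z r from
        (IsScalarTower.algebraMap_apply L₁ P Z r).symm, IsScalarTower.algebraMap_apply L₁ S Z,
        show ζ (algebraMap S Z (algebraMap L₁ S r)) = algebraMap S (ResidueField S) (algebraMap L₁ S r) by
          show Algebra.TensorProduct.lift _ _ _ ((1 : K) ⊗ₜ[A] algebraMap L₁ S r) = _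
          simp,
        ResidueField.algebraMap_eq, (residue_eq_zero_iff _).mpr (map_nonunit (algebraMap L₁ S) r hr'), zero_mul]
    exact one_ne_zero ((map_one ζ).symm.trans (hζ 1 (by rw [h]; exact Submodule.mem_top)))
  -- injectivity on the special fibre of the model
  have hK : Function.Injective ((u.restrictScalars A).lTensor K) := by
    rw [Groth.L20.injective_lTensor_quotient_iff]
    intro x hx
    rw [mem_smul_top_iff (S := S)] at hx ⊢
    exact hu x hx
  have hbM : IsBaseChange K ((TensorProduct.mk S Z M 1).restrictScalars A) :=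
    Groth.L20.isBaseChange_restrictScalars (R := A) (S := S) (R' := K) (S' := Z) (TensorProduct.isBaseChange S M Z)
  have hbN : IsBaseChange K ((TensorProduct.mk S Z N 1).restrictScalars A) :=
    Groth.L20.isBaseChange_restrictScalars (R := A) (S := S) (R' := K) (S' := Z) (TensorProduct.isBaseChange S N Z)
  have hZu : Function.Injective (u.baseChange Z) :=
    (injective_baseChange_iff (u.restrictScalars A) hbM hbN ((u.baseChange Z).restrictScalars K)
      (fun x => by simp)).mp hK
  have hZ₁ : Function.Injective (u₁.lTensor Z) :=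
    (injective_baseChange_iff u₁ (hM.comp (TensorProduct.isBaseChange S M Z))
      (hN.comp (TensorProduct.isBaseChange S N Z)) (u.baseChange Z) (fun x => by simp [hc])).mpr hZu
  have hP : Function.Injective (u₁.baseChange P) :=
    (Module.FaithfullyFlat.lTensor_injective_iff_injective P Z (u₁.baseChange P)).mp
      ((injective_lTensor_lTensor_iff (S := P) (T := Z) u₁).mpr hZ₁)
  have hk₁ : Function.Injective ((u₁.restrictScalars R₁).lTensor (ResidueField R₁)) := by
    rw [Groth.L20.injective_lTensor_residueField_iff]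
    intro x hx
    rw [mem_smul_top_iff (S := L₁)] at hx ⊢
    exact (Groth.L20.injective_lTensor_quotient_iff _ u₁).mp hP x hx
  have huniv := Groth.L20.lTensor_injective_of_residueField L₁ (u₁.restrictScalars R₁) hk₁
  -- base change
  haveI : Algebra.IsPushout R₁ L₁ A W := .symm inferInstance
  have hbM' : IsBaseChange A ((TensorProduct.mk L₁ W M₁ 1).restrictScalars R₁) :=
    Groth.L20.isBaseChange_restrictScalars (R := R₁) (S := L₁) (R' := A) (S' := W) (TensorProduct.isBaseChange L₁ M₁ W)
  have hbN' : IsBaseChange A ((TensorProduct.mk L₁ W N₁ 1).restrictScalars R₁) :=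
    Groth.L20.isBaseChange_restrictScalars (R := R₁) (S := L₁) (R' := A) (S' := W) (TensorProduct.isBaseChange L₁ N₁ W)
  have hWu : Function.Injective (u₁.baseChange W) :=
    (injective_baseChange_iff (u₁.restrictScalars R₁) hbM' hbN' ((u₁.baseChange W).restrictScalars A)
      (fun x => by simp)).mp (huniv A)
  have hSu : Function.Injective (u₁.lTensor S) :=
    (injective_lTensor_lTensor_iff (S := W) (T := S) u₁).mp
      (Module.Flat.lTensor_preserves_injective_linearMap (M := S) (u₁.baseChange W) hWu)
  refine ⟨(injective_baseChange_iff u₁ hM hN u hc).mp hSu, ?_⟩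
  -- the cokernel
  haveI hC₁ : Module.Flat R₁ (N₁ ⧸ LinearMap.range u₁) := by
    haveI : Module.Flat R₁ (N₁ ⧸ LinearMap.range (u₁.restrictScalars R₁)) :=
      Groth.L20.flat_quotient_range_of_lTensor_injective (u₁.restrictScalars R₁) fun I => huniv (R₁ ⧸ I)
    refine Module.Flat.of_linearEquiv (?_ : (N₁ ⧸ LinearMap.range u₁) ≃ₗ[R₁] (N₁ ⧸ LinearMap.range (u₁.restrictScalars R₁)))
    exact (Submodule.Quotient.restrictScalarsEquiv R₁ (LinearMap.range u₁)).symm ≪≫ₗ
      Submodule.quotEquivOfEq _ _ (by rw [LinearMap.range_restrictScalars])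
  haveI : Module.Flat A (W ⊗[L₁] (N₁ ⧸ LinearMap.range u₁)) :=
    Module.Flat.isBaseChange _ _ _ _ (Groth.L20.isBaseChange_restrictScalars (R := R₁) (S := L₁) (R' := A) (S' := W)
      (TensorProduct.isBaseChange L₁ (N₁ ⧸ LinearMap.range u₁) W))
  haveI : Module.Flat A (S ⊗[W] (W ⊗[L₁] (N₁ ⧸ LinearMap.range u₁))) :=
    Groth.L20.ModStalk.flat_tensorProduct (R := A) (S := W) (T := S)
  obtain ⟨g, hg⟩ := isBaseChange_coker u₁ hM hN u hc
  let e : S ⊗[W] (W ⊗[L₁] (N₁ ⧸ LinearMap.range u₁)) ≃ₗ[S] (N ⧸ LinearMap.range u) :=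
    (TensorProduct.AlgebraTensorModule.cancelBaseChange L₁ W S S (N₁ ⧸ LinearMap.range u₁)) ≪≫ₗ hg.equiv
  exact Module.Flat.of_linearEquiv (e.restrictScalars A).symm

end Groth.L02.InjFlat
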