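import Groth.Agent.L02.InjFlat.Sheaf
import Groth.Agent.L02.InjFlat.KerFP
import Groth.Agent.L20.FibreModuleOpen
import Groth.Agent.L19.FPExtend.Ops
import Groth.Agent.L16.Devissage

/-!
The locus where a map of finitely presented modules is injective with flat cokernel is open.
-/

set_option autoImplicit false
set_option linter.style.haveILetI false
set_option maxSynthPendingDepth 3
set_option backward.isDefEq.respectTransparency.types false
set_option backward.isDefEq.respectTransparency false

universe u

open CategoryTheory CategoryTheory.Limits AlgebraicGeometry TopologicalSpace IsLocalRing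
open Groth.L20.ModStalk

namespace Groth.L02.InjFlat

/-- With a flat cokernel the injectivity of a map of finitely presented modules is governed by a finite
module. -/
theorem finite_ker_of_flat_coker {A B M N : Type u} [CommRing A] [CommRing B] [Algebra A B]
    [Algebra.FinitePresentation A B] [AddCommGroup M] [Module B M] [Module.Finite B M]
    [AddCommGroup N] [Module B N] [Module A N] [IsScalarTower A B N] [Module.FinitePresentation B N]
    (w : M →ₗ[B] N) [Module.Flat A (N ⧸ LinearMap.range w)] : Module.Finite B (LinearMap.ker w) := by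
  haveI : Module.FinitePresentation B (N ⧸ LinearMap.range w) :=
    Module.finitePresentation_of_surjective (LinearMap.range w).mkQ (Submodule.mkQ_surjective _)
      (by rw [Submodule.ker_mkQ, LinearMap.range_eq_map]; exact Submodule.FG.map _ Module.Finite.fg_top)
  haveI := finitePresentation_ker_of_flat (A := A) (LinearMap.range w).mkQ (Submodule.mkQ_surjective _)
  haveI : Module.FinitePresentation B (LinearMap.range w) :=
    Module.FinitePresentation.of_equiv (LinearEquiv.ofEq _ _ (Submodule.ker_mkQ _))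
  rw [Module.Finite.iff_fg, ← LinearMap.ker_rangeRestrict]
  exact Module.FinitePresentation.fg_ker _ w.surjective_rangeRestrict

variable {X Y : Scheme.{u}}

/-- The locus of injectivity with flat cokernel is open. -/
theorem isOpen_locus (f : X ⟶ Y) [LocallyOfFinitePresentation f] (F F' : X.Modules) [Coh.IsQCoh F]
    [Coh.IsQCoh F'] (hF : CohB1.IsFP F) (hF' : CohB1.IsFP F') (u : F' ⟶ F) :
    IsOpen {x : X | Function.Injective ((Groth.L00.Stk.F X x).map u).hom ∧ FlatMod.IsFlatOverAt f (cokernel u) x} := by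
  haveI := Groth.L16.Devissage.isQCoh_cokernel u
  have hO := Groth.L20.FibreModule.isOpen_isFlatOverAt f (cokernel u) inferInstance
    (Groth.L19.FPExtend.isFP_cokernel hF' hF u)
  rw [isOpen_iff_forall_mem_open]
  rintro x ⟨hinj, hcok⟩
  obtain ⟨_, ⟨U, hU, rfl⟩, hxU, -⟩ :=
    Y.isBasis_affineOpens.exists_subset_of_mem_open (Set.mem_univ (f x)) isOpen_univ
  obtain ⟨_, ⟨V, hV, rfl⟩, hxV, hVsub⟩ := X.isBasis_affineOpens.exists_subset_of_mem_open
    (a := x) (u := (f ⁻¹ᵁ U : Set X) ∩ {x | FlatMod.IsFlatOverAt f (cokernel u) x}) ⟨hxU, hcok⟩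
    ((f ⁻¹ᵁ U).isOpen.inter hO)
  have hVU : V ≤ f ⁻¹ᵁ U := fun y hy => (hVsub hy).1
  letI := (f.appLE U V hVU).hom.toAlgebra
  letI := Module.compHom Γ(F, V) (f.appLE U V hVU).hom
  haveI : IsScalarTower Γ(Y, U) Γ(X, V) Γ(F, V) := IsScalarTower.of_algebraMap_smul fun _ _ => rfl
  haveI : Algebra.FinitePresentation Γ(Y, U) Γ(X, V) :=
    RingHom.finitePresentation_algebraMap.mp (f.finitePresentation_appLE hU hV hVU)
  haveI := finitePresentation_sections F hF hV
  haveI := finitePresentation_sections F' hF' hV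
  let w : Γ(F', V) →ₗ[Γ(X, V)] Γ(F, V) :=
    { toFun := fun m => u.app V m
      map_add' := fun a b => map_add _ a b
      map_smul' := fun r m => Scheme.Modules.Hom.app_smul u r m }
  let pt : PrimeSpectrum Γ(X, V) → X := fun q => hV.fromSpec q
  have hpt : ∀ q, pt q ∈ V := fun q => by rw [← SetLike.mem_coe, ← hV.range_fromSpec]; exact ⟨q, rfl⟩
  have hprime : ∀ q, hV.primeIdealOf ⟨pt q, hpt q⟩ = q := fun q =>
    hV.fromSpec.isOpenEmbedding.injective (hV.fromSpec_primeIdealOf _)
  have hcomm : ∀ (y : X) (hy : y ∈ V) (m : Γ(F', V)),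
      ((Groth.L00.Stk.F X y).map u).hom (F'.presheaf.germ V y hy m) = F.presheaf.germ V y hy (w m) :=
    fun y hy m => TopCat.Presheaf.stalkFunctor_map_germ_apply V y hy _ m
  -- the cokernel on sections is flat
  haveI : Module.Flat Γ(Y, U) (Γ(F, V) ⧸ LinearMap.range w) := by
    refine Module.flat_of_isLocalized_maximal Γ(X, V) (Γ(F, V) ⧸ LinearMap.range w)
      (fun P => LocalizedModule P.primeCompl (Γ(F, V) ⧸ LinearMap.range w))
      (fun P _ => LocalizedModule.mkLinearMap _ _) fun P hP => ?_
    let q : PrimeSpectrum Γ(X, V) := ⟨P, inferInstance⟩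
    let y := pt q
    have hy : y ∈ V := hpt q
    letI := stalkModule F hy
    letI := stalkModule F' hy
    letI := X.presheaf.algebra_section_stalk (U := V) ⟨y, hy⟩
    haveI hl : IsLocalization.AtPrime (X.presheaf.stalk y) P := by
      have := hV.isLocalization_stalk ⟨y, hy⟩
      rwa [hprime q] at this
    haveI : IsScalarTower Γ(X, V) (X.presheaf.stalk y) (F.presheaf.stalk y) :=
      IsScalarTower.of_algebraMap_smul fun _ _ => rfl
    haveI : IsScalarTower Γ(X, V) (X.presheaf.stalk y) (F'.presheaf.stalk y) :=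
      IsScalarTower.of_algebraMap_smul fun _ _ => rfl
    haveI : IsLocalizedModule P.primeCompl (germₗ F hy) := by
      have := isLocalizedModule_germ F hV hy
      rwa [hprime q] at this
    haveI : IsLocalizedModule P.primeCompl (germₗ F' hy) := by
      have := isLocalizedModule_germ F' hV hy
      rwa [hprime q] at this
    let v : F'.presheaf.stalk y →ₗ[X.presheaf.stalk y] F.presheaf.stalk y := ((Groth.L00.Stk.F X y).map u).hom
    have hr : (LinearMap.range w).localized' (X.presheaf.stalk y) P.primeCompl (germₗ F hy) = LinearMap.range v := by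
      rw [← (LinearMap.range w).span_eq, Submodule.localized'_span, LinearMap.range_eq_map v,
        ← Submodule.localized'_top (X.presheaf.stalk y) P.primeCompl (germₗ F' hy), Submodule.localized'_eq_span,
        Submodule.map_span]
      congr 1
      ext z
      constructor
      · rintro ⟨_, ⟨m, rfl⟩, rfl⟩
        exact ⟨_, ⟨m, trivial, rfl⟩, hcomm y hy m⟩
      · rintro ⟨_, ⟨m, -, rfl⟩, rfl⟩
        exact ⟨w m, ⟨m, rfl⟩, (hcomm y hy m).symm⟩
    have hflat : FlatMod.IsFlatOverAt f (cokernel u) y := (hVsub hy).2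
    letI := (f.stalkMap y).hom.toAlgebra
    letI := FlatMod.moduleStalkOver f F y
    letI := FlatMod.moduleStalkOver f (cokernel u) y
    haveI : IsScalarTower (Y.presheaf.stalk (f y)) (X.presheaf.stalk y) (F.presheaf.stalk y) :=
      IsScalarTower.of_algebraMap_smul fun _ _ => rfl
    let e : (Groth.L00.Stk.F X y).obj (cokernel u) ≅
        ModuleCat.of (X.presheaf.stalk y) (F.presheaf.stalk y ⧸ LinearMap.range v) :=
      PreservesCokernel.iso (Groth.L00.Stk.F X y) u ≪≫
        ModuleCat.cokernelIsoRangeQuotient ((Groth.L00.Stk.F X y).map u)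
    let eR : (cokernel u).presheaf.stalk y ≃ₗ[Y.presheaf.stalk (f y)] F.presheaf.stalk y ⧸ LinearMap.range v :=
      { e.toLinearEquiv.toAddEquiv with
        map_smul' := fun r m => by
          refine (e.toLinearEquiv.map_smul ((f.stalkMap y).hom r) m).trans ?_
          exact algebraMap_smul (X.presheaf.stalk y) r (e.toLinearEquiv m) }
    haveI : Module.Flat (Y.presheaf.stalk (f y)) (F.presheaf.stalk y ⧸ LinearMap.range v) :=
      haveI : Module.Flat (Y.presheaf.stalk (f y)) ((cokernel u).presheaf.stalk y) := hflat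
      Module.Flat.of_linearEquiv eR.symm
    letI := Y.presheaf.algebra_section_stalk (U := U) ⟨f y, hVU hy⟩
    haveI := hU.isLocalization_stalk ⟨f y, hVU hy⟩
    letI : Module Γ(Y, U) (F.presheaf.stalk y) :=
      Module.compHom _ ((X.presheaf.germ V y hy).hom.comp (f.appLE U V hVU).hom)
    haveI : IsScalarTower Γ(Y, U) Γ(X, V) (F.presheaf.stalk y) := IsScalarTower.of_algebraMap_smul fun _ _ => rfl
    haveI : IsScalarTower Γ(Y, U) (Y.presheaf.stalk (f y)) (F.presheaf.stalk y) :=
      IsScalarTower.of_algebraMap_smul fun a m => by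
        show (f.stalkMap y).hom (Y.presheaf.germ U (f y) (hVU hy) a) • m =
          (X.presheaf.germ V y hy).hom ((f.appLE U V hVU).hom a) • m
        congr 1
        exact stalkMap_germ hVU hy (hVU hy) a
    letI : Algebra Γ(Y, U) (X.presheaf.stalk y) :=
      ((X.presheaf.germ V y hy).hom.comp (f.appLE U V hVU).hom).toAlgebra
    haveI : IsScalarTower Γ(Y, U) (X.presheaf.stalk y) (F.presheaf.stalk y) :=
      IsScalarTower.of_algebraMap_smul fun _ _ => rfl
    haveI : Module.Flat Γ(Y, U) (F.presheaf.stalk y ⧸ LinearMap.range v) :=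
      haveI : Module.Flat Γ(Y, U) (Y.presheaf.stalk (f y)) :=
        IsLocalization.flat _ (hU.primeIdealOf ⟨f y, hVU hy⟩).asIdeal.primeCompl
      Module.Flat.trans Γ(Y, U) (Y.presheaf.stalk (f y)) _
    let e₂ := IsLocalizedModule.iso P.primeCompl
      ((LinearMap.range w).toLocalizedQuotient' (X.presheaf.stalk y) P.primeCompl (germₗ F hy))
    exact Module.Flat.of_linearEquiv (e₂.restrictScalars Γ(Y, U) ≪≫ₗ
      (Submodule.quotEquivOfEq _ _ hr).restrictScalars Γ(Y, U))
  haveI := finite_ker_of_flat_coker (A := Γ(Y, U)) w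
  -- injectivity is the complement of the support
  have hiff : ∀ q : PrimeSpectrum Γ(X, V), q ∉ Module.support Γ(X, V) (LinearMap.ker w) ↔
      Function.Injective ((Groth.L00.Stk.F X (pt q)).map u).hom := by
    intro q
    have hy : pt q ∈ V := hpt q
    letI := stalkModule F hy
    letI := stalkModule F' hy
    haveI h1 : IsLocalizedModule q.asIdeal.primeCompl (germₗ F hy) := by
      have := isLocalizedModule_germ F hV hy
      rwa [hprime q] at this
    haveI h2 : IsLocalizedModule q.asIdeal.primeCompl (germₗ F' hy) := by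
      have := isLocalizedModule_germ F' hV hy
      rwa [hprime q] at this
    rw [Module.notMem_support_iff, LocalizedModule.subsingleton_iff]
    constructor
    · intro h
      rw [injective_iff_map_eq_zero]
      intro z hz
      obtain ⟨⟨m, s⟩, hms⟩ := IsLocalizedModule.surj q.asIdeal.primeCompl (germₗ F' hy) z
      have h0 : F.presheaf.germ V _ hy (w m) = 0 := by
        rw [← hcomm]
        show ((Groth.L00.Stk.F X (pt q)).map u).hom (germₗ F' hy m) = 0
        rw [← hms, Submonoid.smul_def]
        show ((Groth.L00.Stk.F X (pt q)).map u).hom ((X.presheaf.germ V _ hy).hom s • z) = 0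
        rw [map_smul, hz, smul_zero]
      obtain ⟨t, ht⟩ := (IsLocalizedModule.eq_zero_iff q.asIdeal.primeCompl (germₗ F hy)).mp h0
      obtain ⟨r, hr, hrm⟩ := h ⟨(t : Γ(X, V)) • m, by rw [LinearMap.mem_ker, map_smul, ← Submonoid.smul_def, ht]⟩
      have h0' : germₗ F' hy m = 0 := (IsLocalizedModule.eq_zero_iff q.asIdeal.primeCompl (germₗ F' hy)).mpr
        ⟨⟨r * t, mul_mem hr t.2⟩, (mul_smul r (t : Γ(X, V)) m).trans (congrArg Subtype.val hrm)⟩
      rw [← hms] at h0'
      exact (IsLocalizedModule.smul_inj (germₗ F' hy) s z 0).mp (by rw [smul_zero]; exact h0')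
    · intro h m
      have h0 : germₗ F' hy m.1 = 0 := h (by
        rw [map_zero]
        refine (hcomm _ hy m.1).trans ?_
        rw [LinearMap.mem_ker.mp m.2, map_zero])
      obtain ⟨r, hr⟩ := (IsLocalizedModule.eq_zero_iff q.asIdeal.primeCompl (germₗ F' hy)).mp h0
      exact ⟨r, r.2, Subtype.ext hr⟩
  refine ⟨hV.fromSpec '' (Module.support Γ(X, V) (LinearMap.ker w))ᶜ, ?_,
    hV.fromSpec.isOpenEmbedding.isOpenMap _ (Module.isClosed_support (R := Γ(X, V)) (M := LinearMap.ker w)).isOpen_compl,
    ⟨hV.primeIdealOf ⟨x, hxV⟩, (hiff _).mpr ?_, hV.fromSpec_primeIdealOf ⟨x, hxV⟩⟩⟩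
  · rintro _ ⟨q, hq, rfl⟩
    exact ⟨(hiff q).mp hq, (hVsub (hpt q)).2⟩
  · show Function.Injective ((Groth.L00.Stk.F X (hV.fromSpec (hV.primeIdealOf ⟨x, hxV⟩))).map u).hom
    rw [hV.fromSpec_primeIdealOf]
    exact hinj

end Groth.L02.InjFlat
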