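import Groth.Agent.L02.InjFlat.BaseChange
import Groth.Agent.L02.InjFlat.Main
import Groth.Agent.L20.FlatLocusOpen
import Mathlib.RingTheory.Adjoin.FG

/-!
Models over finitely generated rings, and change of the ambient algebra along a surjection.
-/

set_option autoImplicit false
set_option linter.style.haveILetI false
set_option maxSynthPendingDepth 3

universe u

open scoped TensorProduct
open MvPolynomial

namespace Groth.L02.InjFlat

attribute [local instance] MvPolynomial.algebraMvPolynomial in
set_option maxHeartbeats 800000 in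
/-- A map of finitely presented modules over a polynomial ring comes from a Noetherian ring of
coefficients. -/
theorem exists_poly_model {R M N : Type u} [CommRing R] {d : ℕ} [AddCommGroup M] [Module (MvPolynomial (Fin d) R) M]
    [AddCommGroup N] [Module (MvPolynomial (Fin d) R) N]
    [Module.FinitePresentation (MvPolynomial (Fin d) R) M] [Module.FinitePresentation (MvPolynomial (Fin d) R) N]
    (f : M →ₗ[MvPolynomial (Fin d) R] N) :
    ∃ (Z : Subalgebra ℤ R) (_ : IsNoetherianRing Z) (M₀ N₀ : Type u) (_ : AddCommGroup M₀)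
      (_ : Module (MvPolynomial (Fin d) Z) M₀) (_ : Module.Finite (MvPolynomial (Fin d) Z) M₀)
      (_ : AddCommGroup N₀) (_ : Module (MvPolynomial (Fin d) Z) N₀) (_ : Module.Finite (MvPolynomial (Fin d) Z) N₀)
      (u₀ : M₀ →ₗ[MvPolynomial (Fin d) Z] N₀),
      letI : Module (MvPolynomial (Fin d) Z) M := Module.compHom M (algebraMap (MvPolynomial (Fin d) Z) (MvPolynomial (Fin d) R))
      letI : Module (MvPolynomial (Fin d) Z) N := Module.compHom N (algebraMap (MvPolynomial (Fin d) Z) (MvPolynomial (Fin d) R))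
      haveI : IsScalarTower (MvPolynomial (Fin d) Z) (MvPolynomial (Fin d) R) M :=
        IsScalarTower.of_algebraMap_smul fun _ _ => rfl
      haveI : IsScalarTower (MvPolynomial (Fin d) Z) (MvPolynomial (Fin d) R) N :=
        IsScalarTower.of_algebraMap_smul fun _ _ => rfl
      ∃ (gM : M₀ →ₗ[MvPolynomial (Fin d) Z] M) (gN : N₀ →ₗ[MvPolynomial (Fin d) Z] N),
        IsBaseChange (MvPolynomial (Fin d) R) gM ∧ IsBaseChange (MvPolynomial (Fin d) R) gN ∧
          ∀ x, f (gM x) = gN (u₀ x) := by
  classical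
  let P := MvPolynomial (Fin d) R
  obtain ⟨nM, LM, eM, GM, hGM⟩ := Module.FinitePresentation.exists_fin P M
  obtain ⟨nN, LN, eN, GN, hGN⟩ := Module.FinitePresentation.exists_fin P N
  let pM : (Fin nM → P) →ₗ[P] M := eM.symm.toLinearMap ∘ₗ LM.mkQ
  let pN : (Fin nN → P) →ₗ[P] N := eN.symm.toLinearMap ∘ₗ LN.mkQ
  have hpM : Function.Surjective pM := eM.symm.surjective.comp (Submodule.mkQ_surjective _)
  have hpN : Function.Surjective pN := eN.symm.surjective.comp (Submodule.mkQ_surjective _)
  choose v hv using fun i => hpN (f (pM (Pi.single i 1)))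
  have hφ : ∀ y : Fin nM → P, pN (Fintype.linearCombination P v y) = f (pM y) := by
    intro y
    show (pN ∘ₗ Fintype.linearCombination P v) y = (f ∘ₗ pM) y
    congr 1
    refine LinearMap.pi_ext' fun i => LinearMap.ext_ring ?_
    show pN (Fintype.linearCombination P v (Pi.single i 1)) = f (pM (Pi.single i 1))
    rw [Fintype.linearCombination_apply_single, one_smul, hv]
  let Wc : Finset R := (GM.biUnion fun y => Finset.univ.biUnion fun i => (y i).coeffs) ∪
    (GN.biUnion fun y => Finset.univ.biUnion fun i => (y i).coeffs) ∪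
    (Finset.univ.biUnion fun j : Fin nM => Finset.univ.biUnion fun i => (v j i).coeffs)
  let Z := Algebra.adjoin ℤ (Wc : Set R)
  haveI : IsNoetherianRing Z := by
    haveI : Algebra.FiniteType ℤ Z := Z.fg_iff_finiteType.mp ⟨Wc, rfl⟩
    exact Algebra.FiniteType.isNoetherianRing ℤ Z
  have hWc : ∀ c ∈ Wc, c ∈ Z := fun c hc => Algebra.subset_adjoin hc
  choose! zM hzM using fun y (hy : y ∈ GM) => exists_lift_vec Z y fun i c hc => hWc c
    (Finset.mem_union_left _ (Finset.mem_union_left _ (Finset.mem_biUnion.mpr ⟨y, hy,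
      Finset.mem_biUnion.mpr ⟨i, Finset.mem_univ _, hc⟩⟩)))
  choose! zN hzN using fun y (hy : y ∈ GN) => exists_lift_vec Z y fun i c hc => hWc c
    (Finset.mem_union_left _ (Finset.mem_union_right _ (Finset.mem_biUnion.mpr ⟨y, hy,
      Finset.mem_biUnion.mpr ⟨i, Finset.mem_univ _, hc⟩⟩)))
  choose v₀ hv₀ using fun j => exists_lift_vec Z (v j) fun i c hc => hWc c
    (Finset.mem_union_right _ (Finset.mem_biUnion.mpr ⟨j, Finset.mem_univ _,
      Finset.mem_biUnion.mpr ⟨i, Finset.mem_univ _, hc⟩⟩))
  let U₀ := MvPolynomial (Fin d) Z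
  let KM : Submodule U₀ (Fin nM → U₀) := Submodule.span U₀ (zM '' (GM : Set (Fin nM → P)))
  let φ₀ : (Fin nM → U₀) →ₗ[U₀] (Fin nN → U₀) := Fintype.linearCombination U₀ v₀
  let KN : Submodule U₀ (Fin nN → U₀) := Submodule.span U₀ (zN '' (GN : Set (Fin nN → P))) ⊔ KM.map φ₀
  letI : Module U₀ M := Module.compHom M (algebraMap U₀ P)
  haveI : IsScalarTower U₀ P M := IsScalarTower.of_algebraMap_smul fun _ _ => rfl
  letI : Module U₀ N := Module.compHom N (algebraMap U₀ P)
  haveI : IsScalarTower U₀ P N := IsScalarTower.of_algebraMap_smul fun _ _ => rfl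
  let jM : (Fin nM → U₀) →ₗ[U₀] (Fin nM → P) := (Algebra.linearMap U₀ P).compLeft (Fin nM)
  let jN : (Fin nN → U₀) →ₗ[U₀] (Fin nN → P) := (Algebra.linearMap U₀ P).compLeft (Fin nN)
  have hjφ : ∀ x, jN (φ₀ x) = Fintype.linearCombination P v (jM x) := by
    intro x
    funext k
    show algebraMap U₀ P (φ₀ x k) = Fintype.linearCombination P v (jM x) k
    simp only [φ₀, Fintype.linearCombination_apply, Finset.sum_apply, Pi.smul_apply, smul_eq_mul, map_sum, map_mul]
    exact Finset.sum_congr rfl fun i _ => congrArg₂ (· * ·) rfl (hv₀ i k)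
  have hjM : ∀ y ∈ GM, jM (zM y) = y := fun y hy => funext (hzM y hy)
  have hjN : ∀ y ∈ GN, jN (zN y) = y := fun y hy => funext (hzN y hy)
  have hkM : ∀ y ∈ LM, pM y = 0 := fun y hy => by
    show eM.symm (LM.mkQ y) = 0
    rw [Submodule.mkQ_apply, (Submodule.Quotient.mk_eq_zero LM).mpr hy, map_zero]
  have hkN : ∀ y ∈ LN, pN y = 0 := fun y hy => by
    show eN.symm (LN.mkQ y) = 0
    rw [Submodule.mkQ_apply, (Submodule.Quotient.mk_eq_zero LN).mpr hy, map_zero]
  have hleM : KM ≤ LinearMap.ker ((pM.restrictScalars U₀) ∘ₗ jM) := by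
    rw [Submodule.span_le]
    rintro _ ⟨y, hy, rfl⟩
    show pM (jM (zM y)) = 0
    rw [hjM y hy]
    exact hkM y (hGM ▸ Submodule.subset_span hy)
  have hleN : KN ≤ LinearMap.ker ((pN.restrictScalars U₀) ∘ₗ jN) := by
    refine sup_le ?_ ?_
    · rw [Submodule.span_le]
      rintro _ ⟨y, hy, rfl⟩
      show pN (jN (zN y)) = 0
      rw [hjN y hy]
      exact hkN y (hGN ▸ Submodule.subset_span hy)
    · rintro _ ⟨x, hx, rfl⟩
      show pN (jN (φ₀ x)) = 0
      rw [hjφ, hφ, show pM (jM x) = 0 from hleM hx, map_zero]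
  refine ⟨Z, inferInstance, (Fin nM → U₀) ⧸ KM, (Fin nN → U₀) ⧸ KN, inferInstance, inferInstance, inferInstance,
    inferInstance, inferInstance, inferInstance, KM.mapQ KN φ₀ (fun x hx => Submodule.mem_sup_right ⟨x, hx, rfl⟩),
    KM.liftQ _ hleM, KN.liftQ _ hleN, ?_, ?_, ?_⟩
  · refine Groth.L20.FibreCrit.isBaseChange_quotient ((IsBaseChange.linearMap U₀ P).finitePow (Fin nM))
      KM.mkQ (Submodule.mkQ_surjective _) pM hpM _ (fun x => rfl) fun y hy => ?_
    have hyL : y ∈ LM := (Submodule.Quotient.mk_eq_zero LM).mp (eM.symm.map_eq_zero_iff.mp hy)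
    rw [← hGM] at hyL
    refine (Submodule.span_le.mpr ?_) hyL
    intro g hg
    exact Submodule.subset_span ⟨zM g, by rw [SetLike.mem_coe, Submodule.ker_mkQ]; exact Submodule.subset_span ⟨g, hg, rfl⟩, hjM g hg⟩
  · refine Groth.L20.FibreCrit.isBaseChange_quotient ((IsBaseChange.linearMap U₀ P).finitePow (Fin nN))
      KN.mkQ (Submodule.mkQ_surjective _) pN hpN _ (fun x => rfl) fun y hy => ?_
    have hyL : y ∈ LN := (Submodule.Quotient.mk_eq_zero LN).mp (eN.symm.map_eq_zero_iff.mp hy)
    rw [← hGN] at hyL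
    refine (Submodule.span_le.mpr ?_) hyL
    intro g hg
    exact Submodule.subset_span ⟨zN g, by
      rw [SetLike.mem_coe, Submodule.ker_mkQ]
      exact Submodule.mem_sup_left (Submodule.subset_span ⟨g, hg, rfl⟩), hjN g hg⟩
  · intro x
    obtain ⟨x, rfl⟩ := Submodule.Quotient.mk_surjective _ x
    show f (pM (jM x)) = pN (jN (φ₀ x))
    rw [hjφ, hφ]

/-- The condition does not change along a surjection of algebras. -/
theorem injFlatAt_iff_of_surjective {R P U M N : Type u} [CommRing R] [CommRing P] [CommRing U]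
    [Algebra R P] [Algebra R U] [Algebra P U] [IsScalarTower R P U] (hs : Function.Surjective (algebraMap P U))
    [AddCommGroup M] [Module U M] [Module P M] [IsScalarTower P U M]
    [AddCommGroup N] [Module U N] [Module P N] [IsScalarTower P U N] [Module R N] [IsScalarTower R U N]
    [IsScalarTower R P N] (u : M →ₗ[U] N) (q : Ideal U) [q.IsPrime] :
    InjFlatAt R (u.restrictScalars P) (q.comap (algebraMap P U)) ↔ InjFlatAt R u q := by
  refine and_congr ?_ ?_
  · constructor
    · intro h m hm
      obtain ⟨t, ht, htm⟩ := h m hm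
      exact ⟨algebraMap P U t, ht, by rw [algebraMap_smul]; exact htm⟩
    · intro h m hm
      obtain ⟨t, ht, htm⟩ := h m hm
      obtain ⟨t, rfl⟩ := hs t
      exact ⟨t, ht, by rw [← algebraMap_smul U t m]; exact htm⟩
  · have hmap : q.primeCompl = (q.comap (algebraMap P U)).primeCompl.map (algebraMap P U) := by
      rw [show (q.comap (algebraMap P U)).primeCompl = q.primeCompl.comap (algebraMap P U) from
        SetLike.ext fun _ => Iff.rfl]
      exact (Submonoid.map_comap_eq_of_surjective (f := algebraMap P U) hs _).symm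
    let e : (N ⧸ LinearMap.range u) ≃ₗ[R] (N ⧸ LinearMap.range (u.restrictScalars P)) :=
      ((Submodule.Quotient.restrictScalarsEquiv P (LinearMap.range u)).symm ≪≫ₗ
        Submodule.quotEquivOfEq _ _ (LinearMap.range_restrictScalars (R := P) u).symm).restrictScalars R
    exact (Groth.L20.flat_localizedModule_iff_of_semilinear (algebraMap P U) e (fun x m => by
      show ((Submodule.Quotient.restrictScalarsEquiv P (LinearMap.range u)).symm ≪≫ₗ
        Submodule.quotEquivOfEq _ _ (LinearMap.range_restrictScalars (R := P) u).symm) (algebraMap P U x • m) = _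
      rw [algebraMap_smul, map_smul]
      rfl) _ _ hmap).symm

end Groth.L02.InjFlat
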