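import Groth.Agent.L02.InjFlat.Affine
import Groth.Agent.L16.AffineBC.Pullback
import Groth.Agent.L20.FibreModuleOpen

/-!
Injectivity with flat cokernel at a point: isomorphisms and base change.
-/

set_option autoImplicit false
set_option linter.style.haveILetI false
set_option maxSynthPendingDepth 3
set_option backward.isDefEq.respectTransparency.types false
set_option backward.isDefEq.respectTransparency false

universe u

open CategoryTheory CategoryTheory.Limits AlgebraicGeometry TopologicalSpace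
open Groth.L18.Frame (rs pull)
open Groth.L16.AffineBC (pullRes isBaseChange_pull isQCoh_pullback)

namespace Groth.L02.InjFlat

variable {X Y : Scheme.{u}}

/-- Injective on the stalk with cokernel flat over the base at the point. -/
def Cond (f : X ⟶ Y) {F' F : X.Modules} (u : F' ⟶ F) (x : X) : Prop :=
  Function.Injective ((Groth.L00.Stk.F X x).map u).hom ∧ FlatMod.IsFlatOverAt f (cokernel u) x

theorem cond_of_iso (f : X ⟶ Y) {A' A B' B : X.Modules} (u : A' ⟶ A) (v : B' ⟶ B) (e' : A' ≅ B') (e : A ≅ B)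
    (w : u ≫ e.hom = e'.hom ≫ v) (x : X) (h : Cond f u x) : Cond f v x := by
  refine ⟨?_, Groth.L20.FibreModule.isFlatOverAt_congr f (cokernel.mapIso u v e' e w) h.2⟩
  have hv : ∀ z, ((Groth.L00.Stk.F X x).map v).hom z = ((Groth.L00.Stk.F X x).map e.hom).hom
      (((Groth.L00.Stk.F X x).map u).hom (((Groth.L00.Stk.F X x).map e'.inv).hom z)) := fun z => by
    rw [← ModuleCat.comp_apply, ← ModuleCat.comp_apply, ← Functor.map_comp, ← Functor.map_comp,
      show e'.inv ≫ u ≫ e.hom = v by rw [w, Iso.inv_hom_id_assoc]]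
  intro a b hab
  rw [hv, hv] at hab
  exact ((Groth.L00.Stk.F X x).mapIso e'.symm).toLinearEquiv.injective
    (h.1 (((Groth.L00.Stk.F X x).mapIso e).toLinearEquiv.injective hab))

/-- The pulled back map on the pulled back sections. -/
theorem sec_pullRes {Z : Scheme.{u}} (g : Z ⟶ X) {F' F : X.Modules} (u : F' ⟶ F) {V : X.Opens} {W : Z.Opens}
    (e : W ≤ g ⁻¹ᵁ V) (m : Γ(F', V)) :
    sec ((Scheme.Modules.pullback g).map u) W (pullRes g F' e m) = pullRes g F e (sec u V m) := by
  have h1 := congr(($((Scheme.Modules.pullback g).map u |>.mapPresheaf.naturality (homOfLE e).op)) (pull g F' V m))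
  have h2 : ((Scheme.Modules.pullback g).map u).app (g ⁻¹ᵁ V) (pull g F' V m) = pull g F V (u.app V m) :=
    congr(($((Scheme.Modules.pullbackPushforwardAdjunction g).unit.naturality u)).app V m).symm
  show ((Scheme.Modules.pullback g).map u).app W (rs _ e (pull g F' V m)) = rs _ e (pull g F V (u.app V m))
  rw [← h2]
  exact h1

/-- Stability under base change. -/
theorem cond_baseChange {X' Y' : Scheme.{u}} {f : X ⟶ Y} {f' : X' ⟶ Y'} {g' : X' ⟶ X} {g : Y' ⟶ Y}
    (sq : IsPullback g' f' f g) {F' F : X.Modules} [Coh.IsQCoh F'] [Coh.IsQCoh F] (u : F' ⟶ F) (x' : X')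
    (h : Cond f u (g' x')) : Cond f' ((Scheme.Modules.pullback g').map u) x' := by
  obtain ⟨W, V, W', U, eV, eW, eU, eU', hW, hV, hW', hU, hxU, hpush⟩ :=
    Groth.L20.ModStalk.exists_affine_square sq x'
  haveI := isQCoh_pullback g' F'
  haveI := isQCoh_pullback g' F
  letI := (f.appLE W V eV).hom.toAlgebra
  letI := Module.compHom Γ(F, V) (f.appLE W V eV).hom
  haveI : IsScalarTower Γ(Y, W) Γ(X, V) Γ(F, V) := IsScalarTower.of_algebraMap_smul fun _ _ => rfl
  have hxV : g' x' ∈ V := eU hxU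
  have hA := (injFlat_iff f u hW hV eV hxV).mp h
  let P' := (Scheme.Modules.pullback g').obj F'
  let P := (Scheme.Modules.pullback g').obj F
  letI := (f'.appLE W' U eU').hom.toAlgebra
  letI := (g.appLE W W' eW).hom.toAlgebra
  letI := (g'.appLE V U eU).hom.toAlgebra
  letI := Module.compHom Γ(P, U) (f'.appLE W' U eU').hom
  haveI : IsScalarTower Γ(Y', W') Γ(X', U) Γ(P, U) := IsScalarTower.of_algebraMap_smul fun _ _ => rfl
  letI := Module.compHom Γ(P', U) (f'.appLE W' U eU').hom
  haveI : IsScalarTower Γ(Y', W') Γ(X', U) Γ(P', U) := IsScalarTower.of_algebraMap_smul fun _ _ => rfl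
  letI := Module.compHom Γ(F', V) (f.appLE W V eV).hom
  haveI : IsScalarTower Γ(Y, W) Γ(X, V) Γ(F', V) := IsScalarTower.of_algebraMap_smul fun _ _ => rfl
  letI : Algebra Γ(Y, W) Γ(X', U) := ((g'.appLE V U eU).hom.comp (f.appLE W V eV).hom).toAlgebra
  haveI : IsScalarTower Γ(Y, W) Γ(X, V) Γ(X', U) := IsScalarTower.of_algebraMap_eq fun _ => rfl
  haveI : IsScalarTower Γ(Y, W) Γ(Y', W') Γ(X', U) :=
    IsScalarTower.of_algebraMap_eq fun a => congr(($(hpush.w)).hom a)
  haveI : Algebra.IsPushout Γ(Y, W) Γ(X, V) Γ(Y', W') Γ(X', U) := CommRingCat.isPushout_iff_isPushout.mp hpush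
  letI := Module.compHom Γ(P', U) (g'.appLE V U eU).hom
  haveI : IsScalarTower Γ(X, V) Γ(X', U) Γ(P', U) := IsScalarTower.of_algebraMap_smul fun _ _ => rfl
  letI := Module.compHom Γ(P, U) (g'.appLE V U eU).hom
  haveI : IsScalarTower Γ(X, V) Γ(X', U) Γ(P, U) := IsScalarTower.of_algebraMap_smul fun _ _ => rfl
  refine (injFlat_iff f' ((Scheme.Modules.pullback g').map u) hW' hU eU' hxU).mpr ?_
  refine InjFlatAt.baseChange (R := Γ(Y, W)) (R' := Γ(Y', W')) (sec u V)
    (isBaseChange_pull g' F' hV hU eU) (isBaseChange_pull g' F hV hU eU) _ (fun m => sec_pullRes g' u eU m)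
    _ _ ?_ hA
  exact congr($(IsAffineOpen.comap_primeIdealOf_appLE V hV U hU eU hxU).1)

end Groth.L02.InjFlat
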