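import Groth.Agent.L02.InjFlat.Main
import Groth.Agent.L20.ModStalk
import Groth.Agent.L20.UnivInj
import Groth.Agent.L00.StalkFunctor
import Groth.Agent.L05.Glue.FlatTorsion
import Mathlib.AlgebraicGeometry.Morphisms.FinitePresentation

/-!
The local rings of a morphism locally of finite presentation, and the criterion for modules on schemes.
-/

set_option autoImplicit false
set_option linter.style.haveILetI false
set_option maxSynthPendingDepth 3
set_option backward.isDefEq.respectTransparency.types false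
set_option backward.isDefEq.respectTransparency false

universe u

open CategoryTheory CategoryTheory.Limits AlgebraicGeometry TopologicalSpace IsLocalRing IsLocalization

namespace Groth.L02.InjFlat

theorem isEssFP_of_atPrime {R C A B : Type u} [CommRing R] [CommRing C] [Algebra R C]
    [Algebra.FinitePresentation R C] [CommRing A] [CommRing B] [Algebra R A] [Algebra C B] [Algebra A B]
    [Algebra R B] [IsScalarTower R A B] [IsScalarTower R C B]
    (p : Ideal R) [p.IsPrime] (Q : Ideal C) [Q.IsPrime] (hQ : Q.comap (algebraMap R C) = p)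
    [IsLocalization.AtPrime A p] [IsLocalization.AtPrime B Q] :
    CAlgX.IsEssFinitePresentation A B := by
  let M := Algebra.algebraMapSubmonoid C p.primeCompl
  let C' := Localization M
  have hle : M ≤ Q.primeCompl := by
    rintro _ ⟨x, hx, rfl⟩ hxQ
    exact hx (hQ ▸ hxQ)
  letI : Algebra A C' := localizationAlgebra p.primeCompl C
  haveI : IsScalarTower R A C' :=
    IsScalarTower.of_algebraMap_eq fun x => by
      rw [IsScalarTower.algebraMap_apply R C C']
      exact (IsLocalization.map_eq _ x).symm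
  haveI : Algebra.IsPushout R A C C' :=
    (Algebra.isPushout_of_isLocalization (S := p.primeCompl) (A := A) (T := C) (B := C')).symm
  haveI : Algebra.FinitePresentation A C' :=
    Algebra.FinitePresentation.equiv (Algebra.IsPushout.equiv R A C C')
  letI : Algebra C' B := localizationAlgebraOfSubmonoidLe C' _ M Q.primeCompl hle
  haveI : IsScalarTower C C' B :=
    localization_isScalarTower_of_submonoid_le C' _ M Q.primeCompl hle
  haveI : IsScalarTower R C' B := IsScalarTower.of_algebraMap_eq fun x => by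
    rw [IsScalarTower.algebraMap_apply R C C', ← IsScalarTower.algebraMap_apply C C' B,
      ← IsScalarTower.algebraMap_apply R C B]
  haveI : IsScalarTower A C' B :=
    IsScalarTower.of_algebraMap_eq' (IsLocalization.ringHom_ext p.primeCompl (RingHom.ext fun x => by
      simp only [RingHom.comp_apply, ← IsScalarTower.algebraMap_apply]))
  exact ⟨C', _, _, _, inferInstance, Q.primeCompl.map (algebraMap C C'), inferInstance,
    IsLocalization.isLocalization_of_submonoid_le _ _ M Q.primeCompl hle⟩

variable {X Y : Scheme.{u}}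

/-- The local rings are essentially of finite presentation. -/
theorem isEssFP_stalk (f : X ⟶ Y) [LocallyOfFinitePresentation f] (x : X) :
    letI := (f.stalkMap x).hom.toAlgebra
    CAlgX.IsEssFinitePresentation (Y.presheaf.stalk (f x)) (X.presheaf.stalk x) := by
  obtain ⟨_, ⟨U, hU, rfl⟩, hxU, -⟩ :=
    Y.isBasis_affineOpens.exists_subset_of_mem_open (Set.mem_univ (f x)) isOpen_univ
  obtain ⟨_, ⟨V, hV, rfl⟩, hxV, hVU⟩ := X.isBasis_affineOpens.exists_subset_of_mem_open
    (show x ∈ f ⁻¹ᵁ U from hxU) (f ⁻¹ᵁ U).isOpen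
  have hVU' : V ≤ f ⁻¹ᵁ U := hVU
  have hfp := f.finitePresentation_appLE hU hV hVU'
  algebraize [(f.appLE U V hVU').hom]
  letI := Y.presheaf.algebra_section_stalk (U := U) ⟨f x, hxU⟩
  letI := X.presheaf.algebra_section_stalk (U := V) ⟨x, hxV⟩
  haveI := hU.isLocalization_stalk ⟨f x, hxU⟩
  haveI := hV.isLocalization_stalk ⟨x, hxV⟩
  letI := (f.stalkMap x).hom.toAlgebra
  letI : Algebra Γ(Y, U) (X.presheaf.stalk x) :=
    ((algebraMap Γ(X, V) (X.presheaf.stalk x)).comp (algebraMap Γ(Y, U) Γ(X, V))).toAlgebra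
  haveI : IsScalarTower Γ(Y, U) Γ(X, V) (X.presheaf.stalk x) := IsScalarTower.of_algebraMap_eq fun _ => rfl
  have hc : ∀ a : Γ(Y, U), (X.presheaf.germ V x hxV).hom ((f.appLE U V hVU').hom a) =
      (f.stalkMap x).hom ((Y.presheaf.germ U (f x) hxU).hom a) := fun a => by
    rw [Scheme.Hom.appLE, CommRingCat.hom_comp, RingHom.comp_apply]
    refine (TopCat.Presheaf.germ_res_apply X.presheaf (homOfLE hVU') x hxV _).trans ?_
    exact (Scheme.Hom.germ_stalkMap_apply f U x hxU a).symm
  haveI : IsScalarTower Γ(Y, U) (Y.presheaf.stalk (f x)) (X.presheaf.stalk x) :=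
    IsScalarTower.of_algebraMap_eq fun a => hc a
  refine isEssFP_of_atPrime (R := Γ(Y, U)) (C := Γ(X, V)) (hU.primeIdealOf ⟨f x, hxU⟩).asIdeal
    (hV.primeIdealOf ⟨x, hxV⟩).asIdeal ?_
  ext a
  rw [Ideal.mem_comap]
  rw [← IsLocalization.AtPrime.to_map_mem_maximal_iff (X.presheaf.stalk x) (hV.primeIdealOf ⟨x, hxV⟩).asIdeal,
    ← IsLocalization.AtPrime.to_map_mem_maximal_iff (Y.presheaf.stalk (f x)) (hU.primeIdealOf ⟨f x, hxU⟩).asIdeal,
    mem_maximalIdeal, mem_maximalIdeal]
  exact ⟨fun h hu => h ((hc a).symm ▸ hu.map (f.stalkMap x).hom),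
    fun h hu => h (isUnit_of_map_unit (f.stalkMap x).hom _ ((hc a) ▸ hu))⟩

/-- Stalks of finitely presented modules. -/
theorem finitePresentation_stalk (F : X.Modules) [Coh.IsQCoh F] (hF : CohB1.IsFP F) (x : X) :
    Module.FinitePresentation (X.presheaf.stalk x) (F.presheaf.stalk x) := by
  obtain ⟨_, ⟨V, hV, rfl⟩, hxV, -⟩ :=
    X.isBasis_affineOpens.exists_subset_of_mem_open (Set.mem_univ x) isOpen_univ
  letI := Groth.L20.ModStalk.stalkModule F hxV
  letI := X.presheaf.algebra_section_stalk (U := V) ⟨x, hxV⟩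
  haveI := hV.isLocalization_stalk ⟨x, hxV⟩
  haveI : IsScalarTower Γ(X, V) (X.presheaf.stalk x) (F.presheaf.stalk x) :=
    IsScalarTower.of_algebraMap_smul fun _ _ => rfl
  haveI := Groth.L20.ModStalk.isLocalizedModule_germ F hV hxV
  haveI := Groth.L20.ModStalk.finitePresentation_sections F hF hV
  exact FinitePresentation.of_isBaseChange _
    (IsLocalizedModule.isBaseChange (hV.primeIdealOf ⟨x, hxV⟩).asIdeal.primeCompl (X.presheaf.stalk x)
      (Groth.L20.ModStalk.germₗ F hxV))

/-- Injectivity modulo the maximal ideal of the base is injectivity with flat cokernel. -/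
theorem stalk_iff (f : X ⟶ Y) [LocallyOfFinitePresentation f] (F F' : X.Modules) [Coh.IsQCoh F]
    [Coh.IsQCoh F'] (hF : CohB1.IsFP F) (hF' : CohB1.IsFP F') (u : F' ⟶ F) (x : X)
    (hflat : FlatMod.IsFlatOverAt f F x) :
    let v : F'.presheaf.stalk x →ₗ[X.presheaf.stalk x] F.presheaf.stalk x := ((Groth.L00.Stk.F X x).map u).hom
    (Function.Injective v ∧ FlatMod.IsFlatOverAt f (cokernel u) x) ↔
      ∀ m : F'.presheaf.stalk x,
        v m ∈ ((maximalIdeal (Y.presheaf.stalk (f x))).map (f.stalkMap x).hom • (⊤ : Submodule (X.presheaf.stalk x) (F.presheaf.stalk x))) →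
          m ∈ ((maximalIdeal (Y.presheaf.stalk (f x))).map (f.stalkMap x).hom • (⊤ : Submodule (X.presheaf.stalk x) (F'.presheaf.stalk x))) := by
  intro v
  letI := (f.stalkMap x).hom.toAlgebra
  letI := FlatMod.moduleStalkOver f F x
  letI := FlatMod.moduleStalkOver f F' x
  haveI : IsScalarTower (Y.presheaf.stalk (f x)) (X.presheaf.stalk x) (F.presheaf.stalk x) :=
    IsScalarTower.of_algebraMap_smul fun _ _ => rfl
  haveI : IsScalarTower (Y.presheaf.stalk (f x)) (X.presheaf.stalk x) (F'.presheaf.stalk x) :=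
    IsScalarTower.of_algebraMap_smul fun _ _ => rfl
  haveI : Module.Flat (Y.presheaf.stalk (f x)) (F.presheaf.stalk x) := hflat
  haveI := finitePresentation_stalk F hF x
  haveI := finitePresentation_stalk F' hF' x
  let w : F'.presheaf.stalk x →ₗ[X.presheaf.stalk x] F.presheaf.stalk x := v
  let e : (Groth.L00.Stk.F X x).obj (cokernel u) ≅
      ModuleCat.of (X.presheaf.stalk x) (F.presheaf.stalk x ⧸ LinearMap.range w) :=
    PreservesCokernel.iso (Groth.L00.Stk.F X x) u ≪≫
      ModuleCat.cokernelIsoRangeQuotient ((Groth.L00.Stk.F X x).map u)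
  letI := FlatMod.moduleStalkOver f (cokernel u) x
  let eR : (cokernel u).presheaf.stalk x ≃ₗ[Y.presheaf.stalk (f x)] F.presheaf.stalk x ⧸ LinearMap.range w :=
    { e.toLinearEquiv.toAddEquiv with
      map_smul' := fun r m => by
        refine (e.toLinearEquiv.map_smul ((f.stalkMap x).hom r) m).trans ?_
        exact algebraMap_smul (X.presheaf.stalk x) r (e.toLinearEquiv m) }
  constructor
  · rintro ⟨hinj, hcok⟩
    haveI : Module.Flat (Y.presheaf.stalk (f x)) (F.presheaf.stalk x ⧸ LinearMap.range w) :=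
      haveI : Module.Flat (Y.presheaf.stalk (f x)) ((cokernel u).presheaf.stalk x) := hcok
      Module.Flat.of_linearEquiv eR.symm
    intro m hm
    rw [show (maximalIdeal (Y.presheaf.stalk (f x))).map (f.stalkMap x).hom =
      (maximalIdeal (Y.presheaf.stalk (f x))).map (algebraMap _ (X.presheaf.stalk x)) from rfl] at hm ⊢
    change w m ∈ _ at hm
    rw [← mem_smul_top_iff] at hm ⊢
    exact (Groth.L20.injective_lTensor_quotient_iff _ (w.restrictScalars _)).mp
      (Groth.L05.FlatTorsion.lTensor_injective_of_flat_coker (w.restrictScalars (Y.presheaf.stalk (f x)))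
        ((LinearMap.range w).mkQ.restrictScalars _) hinj (fun y => Submodule.Quotient.mk_eq_zero _)
        (Submodule.mkQ_surjective _) _) m hm
  · intro h
    haveI : IsLocalHom (algebraMap (Y.presheaf.stalk (f x)) (X.presheaf.stalk x)) := ⟨fun a ha => isUnit_of_map_unit (f.stalkMap x).hom a ha⟩
    obtain ⟨h1, h2⟩ := inj_flat (isEssFP_stalk f x) w h
    exact ⟨h1, Module.Flat.of_linearEquiv eR⟩

end Groth.L02.InjFlat
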