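import Groth.Agent.L02.InjFlat.Main
import Groth.Agent.L09.Nagata
import Mathlib.RingTheory.EssentialFiniteness

/-!
The criterion over a valuation ring, for finite modules over algebras essentially of finite type.
-/

set_option autoImplicit false
set_option linter.style.haveILetI false
set_option maxSynthPendingDepth 3

universe u

open IsLocalRing

namespace Groth.L02.InjFlat

/-- A finite torsion free module over a local ring of a polynomial ring over a valuation ring is finitely
presented. -/
theorem finitePresentation_of_flat_valuationRing {A : Type u} [CommRing A] [IsDomain A] [ValuationRing A] {d : ℕ}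
    (q : Ideal (MvPolynomial (Fin d) A)) [q.IsPrime]
    (L : Type u) [CommRing L] [Algebra (MvPolynomial (Fin d) A) L] [IsLocalization.AtPrime L q]
    [Algebra A L] [IsScalarTower A (MvPolynomial (Fin d) A) L]
    (M : Type u) [AddCommGroup M] [Module L M] [Module A M] [IsScalarTower A L M] [Module.Finite L M] [Module.Flat A M] :
    Module.FinitePresentation L M := by
  classical
  let P := MvPolynomial (Fin d) A
  letI : Module P M := Module.compHom M (algebraMap P L)
  haveI : IsScalarTower P L M := IsScalarTower.of_algebraMap_smul fun _ _ => rfl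
  haveI : IsScalarTower A P M := IsScalarTower.of_algebraMap_smul fun a x => by
    rw [← algebraMap_smul L (algebraMap A P a), ← IsScalarTower.algebraMap_apply A P L, algebraMap_smul]
  obtain ⟨n, p, hp⟩ := Module.Finite.exists_fin' L M
  let j : (Fin n → P) →ₗ[P] (Fin n → L) := (Algebra.linearMap P L).compLeft (Fin n)
  let M₁ := LinearMap.range ((p.restrictScalars P) ∘ₗ j)
  haveI : Module.FinitePresentation P M₁ :=
    Groth.L09.Nagata.finitePresentation_of_torsionFree' (V := A) (fun a m ham => by
      by_cases ha : a = 0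
      · exact Or.inl ha
      · refine Or.inr (Subtype.ext ?_)
        have hmem : (m : M) ∈ Submodule.torsion A M :=
          (Submodule.mem_torsion_iff (m : M)).mpr ⟨⟨a, mem_nonZeroDivisors_of_ne_zero ha⟩, congrArg Subtype.val ham⟩
        rw [Module.Flat.torsion_eq_bot] at hmem
        exact hmem)
  have hu : ∀ s : q.primeCompl, IsUnit (algebraMap P L s) := IsLocalization.map_units L
  haveI : IsLocalizedModule q.primeCompl M₁.subtype := by
    refine (isLocalizedModule_iff _ _).mpr ⟨fun s => ?_, fun y => ?_, fun {x₁ x₂} h => ⟨1, by rw [Subtype.ext h]⟩⟩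
    · rw [Module.End.isUnit_iff]
      refine Function.bijective_iff_has_inverse.mpr ⟨fun z => ((hu s).unit⁻¹ : Lˣ).val • z, fun z => ?_, fun z => ?_⟩
      · show ((hu s).unit⁻¹ : Lˣ).val • (algebraMap P L s • z) = z
        rw [smul_smul, IsUnit.val_inv_mul, one_smul]
      · show algebraMap P L s • (((hu s).unit⁻¹ : Lˣ).val • z) = z
        rw [smul_smul, IsUnit.mul_val_inv, one_smul]
    · obtain ⟨v, rfl⟩ := hp y
      obtain ⟨b, hb⟩ := IsLocalization.exist_integer_multiples q.primeCompl Finset.univ v
      choose w hw using fun i => hb i (Finset.mem_univ i)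
      refine ⟨⟨⟨p (j w), w, rfl⟩, b⟩, ?_⟩
      show (b : P) • p v = p (j w)
      rw [← LinearMap.map_smul_of_tower]
      congr 1
      funext i
      exact (hw i).symm
  exact FinitePresentation.of_isBaseChange M₁.subtype (IsLocalizedModule.isBaseChange q.primeCompl L M₁.subtype)

/-- A ring map of local rings, injective modulo the maximal ideal, with flat target. -/
theorem inj_flat_valuationRing {A B : Type u} [CommRing A] [IsDomain A] [ValuationRing A] [CommRing B] [IsLocalRing B]
    [Algebra A B] [IsLocalHom (algebraMap A B)] [Algebra.EssFiniteType A B]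
    {N M : Type u} [AddCommGroup N] [Module B N] [Module A N] [IsScalarTower A B N] [Module.Finite B N]
    [AddCommGroup M] [Module B M] [Module A M] [IsScalarTower A B M] [Module.Finite B M] [Module.Flat A M]
    (u : N →ₗ[B] M)
    (hu : ∀ x : N, u x ∈ maximalIdeal A • (⊤ : Submodule A M) → x ∈ maximalIdeal A • (⊤ : Submodule A N)) :
    Function.Injective u ∧ Module.Flat A (M ⧸ LinearMap.range u) := by
  classical
  obtain ⟨s, hs⟩ := ‹Algebra.EssFiniteType A B›.cond
  let S₀ := Algebra.adjoin A (s : Set B)
  haveI : Algebra.FiniteType A S₀ := S₀.fg_iff_finiteType.mp ⟨s, rfl⟩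
  obtain ⟨d, π, hπ⟩ := Algebra.FiniteType.iff_quotient_mvPolynomial''.mp ‹Algebra.FiniteType A S₀›
  haveI := hs
  let P := MvPolynomial (Fin d) A
  let q₀ := (maximalIdeal B).comap (algebraMap S₀ B)
  haveI : IsLocalization.AtPrime B q₀ :=
    Groth.L02.EssFP.atPrime_of_isLocalRing ((IsUnit.submonoid B).comap (algebraMap S₀ B))
  let q := q₀.comap π.toRingHom
  haveI : q.IsPrime := Ideal.IsPrime.comap _
  let L := Localization.AtPrime q
  let σ : L →+* B := IsLocalization.map B π.toRingHom (M := q.primeCompl) (T := q₀.primeCompl) (fun x hx => hx)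
  letI := σ.toAlgebra
  have hσs : Function.Surjective σ := by
    intro z
    obtain ⟨a, t, rfl⟩ := IsLocalization.exists_mk'_eq q₀.primeCompl z
    obtain ⟨a, rfl⟩ := hπ a
    obtain ⟨t', ht'⟩ := hπ t
    refine ⟨IsLocalization.mk' L a (⟨t', show π t' ∉ q₀ from ht'.symm ▸ t.2⟩ : q.primeCompl), ?_⟩
    refine (IsLocalization.map_mk' _ a _).trans ?_
    exact congrArg (IsLocalization.mk' B (π a)) (Subtype.ext ht')
  haveI : IsScalarTower A L B := IsScalarTower.of_algebraMap_eq fun r => by
    rw [IsScalarTower.algebraMap_apply A P L, show algebraMap L B (algebraMap P L (algebraMap A P r)) = _ from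
      IsLocalization.map_eq _ (algebraMap A P r), IsScalarTower.algebraMap_apply A S₀ B]
    exact congrArg _ (π.commutes r).symm
  haveI : IsLocalHom (algebraMap A L) := ⟨fun a ha => isUnit_of_map_unit (algebraMap A B) a
    (by rw [IsScalarTower.algebraMap_apply A L B]; exact ha.map _)⟩
  have hLfp : CAlgX.IsEssFinitePresentation A L :=
    ⟨P, inferInstance, inferInstance, inferInstance, inferInstance, q.primeCompl, inferInstance, inferInstance⟩
  haveI : Module.Finite L B := Module.Finite.of_surjective (Algebra.linearMap L B) hσs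
  letI : Module L N := Module.compHom N σ
  haveI : IsScalarTower L B N := IsScalarTower.of_algebraMap_smul fun _ _ => rfl
  haveI : IsScalarTower A L N := IsScalarTower.of_algebraMap_smul fun r x => by
    rw [← algebraMap_smul B (algebraMap A L r), ← IsScalarTower.algebraMap_apply A L B, algebraMap_smul]
  letI : Module L M := Module.compHom M σ
  haveI : IsScalarTower L B M := IsScalarTower.of_algebraMap_smul fun _ _ => rfl
  haveI : IsScalarTower A L M := IsScalarTower.of_algebraMap_smul fun r x => by
    rw [← algebraMap_smul B (algebraMap A L r), ← IsScalarTower.algebraMap_apply A L B, algebraMap_smul]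
  haveI : Module.Finite L N := Module.Finite.trans B N
  haveI : Module.Finite L M := Module.Finite.trans B M
  haveI := finitePresentation_of_flat_valuationRing q L M
  -- the special fibre of the local ring is noetherian
  let J : Ideal L := (maximalIdeal A).map (algebraMap A L)
  let φP : P →+* MvPolynomial (Fin d) (ResidueField A) := MvPolynomial.map (residue A)
  have hφs : Function.Surjective φP := MvPolynomial.map_surjective _ residue_surjective
  have hkerP : RingHom.ker φP ≤ J.comap (algebraMap P L) := by
    rw [MvPolynomial.ker_map, ker_residue, Ideal.map_le_iff_le_comap]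
    intro a ha
    show algebraMap P L (algebraMap A P a) ∈ J
    rw [← IsScalarTower.algebraMap_apply]
    exact Ideal.mem_map_of_mem _ ha
  haveI : IsNoetherian L (L ⧸ J) := by
    refine ⟨fun S => ?_⟩
    let I : Ideal L := S.comap J.mkQ
    have hJI : J ≤ I := fun x hx => by
      show J.mkQ x ∈ S
      rw [Submodule.mkQ_apply, (Submodule.Quotient.mk_eq_zero J).mpr hx]
      exact zero_mem S
    let I₀ := I.comap (algebraMap P L)
    obtain ⟨G, hG⟩ := (IsNoetherian.noetherian (I₀.map φP) : (I₀.map φP).FG)
    choose g hgI hg using fun x : G => (Ideal.mem_map_iff_of_surjective φP hφs).mp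
      (hG ▸ Submodule.subset_span x.2 : (x : MvPolynomial (Fin d) (ResidueField A)) ∈ I₀.map φP)
    let T : Finset L := Finset.univ.image fun x : G => algebraMap P L (g x)
    have hT : I ≤ Submodule.span L (T : Set L) ⊔ J := by
      rw [← IsLocalization.map_comap q.primeCompl L I, Ideal.map_le_iff_le_comap]
      intro a ha
      have h1 : φP a ∈ (Ideal.span (Set.range g)).map φP := by
        rw [Ideal.map_span, ← Set.range_comp]
        have h2 : φP a ∈ Submodule.span _ (G : Set (MvPolynomial (Fin d) (ResidueField A))) :=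
          hG.symm ▸ Ideal.mem_map_of_mem φP ha
        refine (Submodule.span_mono fun x hx => ?_) h2
        exact ⟨⟨x, hx⟩, hg _⟩
      obtain ⟨b, hb, hab⟩ := (Ideal.mem_map_iff_of_surjective φP hφs).mp h1
      show algebraMap P L a ∈ Submodule.span L (T : Set L) ⊔ J
      rw [show a = b + (a - b) by ring, map_add]
      refine Submodule.add_mem_sup ?_ (hkerP (by rw [RingHom.mem_ker, map_sub, hab, sub_self]))
      have h3 : algebraMap P L b ∈ (Ideal.span (Set.range g)).map (algebraMap P L) := Ideal.mem_map_of_mem _ hb
      rw [Ideal.map_span] at h3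
      refine (Submodule.span_mono ?_) h3
      rintro _ ⟨_, ⟨x, rfl⟩, rfl⟩
      exact Finset.mem_image_of_mem _ (Finset.mem_univ x)
    have hmap : S = (Submodule.span L (T : Set L)).map J.mkQ := by
      refine le_antisymm (fun y hy => ?_) ?_
      · obtain ⟨x, rfl⟩ := Submodule.mkQ_surjective J y
        obtain ⟨a, ha, b, hb, rfl⟩ := Submodule.mem_sup.mp (hT (show x ∈ I from hy))
        exact ⟨a, ha, by rw [map_add, Submodule.mkQ_apply J b, (Submodule.Quotient.mk_eq_zero J).mpr hb, add_zero]⟩
      · rw [Submodule.map_le_iff_le_comap, Submodule.span_le]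
        intro y hy
        obtain ⟨x, -, rfl⟩ := Finset.mem_image.mp hy
        exact hgI x
    rw [hmap]
    exact (Submodule.fg_span T.finite_toSet).map _
  -- a finitely presented cover of the source
  obtain ⟨n, p, hp⟩ := Module.Finite.exists_fin' L N
  let ρ : (Fin n → L) →ₗ[L] (Fin n → L ⧸ J) := J.mkQ.compLeft (Fin n)
  obtain ⟨G, hG⟩ := (IsNoetherian.noetherian ((LinearMap.ker p).map ρ) : ((LinearMap.ker p).map ρ).FG)
  choose g hgK hg using fun x : G => (hG ▸ Submodule.subset_span x.2 : (x : Fin n → L ⧸ J) ∈ (LinearMap.ker p).map ρ)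
  let K' : Submodule L (Fin n → L) := Submodule.span L (Set.range g)
  have hK' : K' ≤ LinearMap.ker p := Submodule.span_le.mpr (by rintro _ ⟨x, rfl⟩; exact hgK x)
  haveI : Module.FinitePresentation L ((Fin n → L) ⧸ K') :=
    Module.finitePresentation_of_surjective K'.mkQ (Submodule.mkQ_surjective _)
      (by rw [Submodule.ker_mkQ]; exact Submodule.fg_span (Set.finite_range g))
  let τ : ((Fin n → L) ⧸ K') →ₗ[L] N := K'.liftQ p hK'
  have hτ : Function.Surjective τ := fun y => let ⟨x, hx⟩ := hp y; ⟨Submodule.Quotient.mk x, hx⟩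
  have hkerτ : ∀ z, τ z = 0 → z ∈ J • (⊤ : Submodule L ((Fin n → L) ⧸ K')) := by
    intro z hz
    obtain ⟨x, rfl⟩ := Submodule.Quotient.mk_surjective _ z
    have h1 : ρ x ∈ K'.map ρ := by
      rw [Submodule.map_span, ← Set.range_comp]
      have h2 : ρ x ∈ Submodule.span L (G : Set (Fin n → L ⧸ J)) := by rw [hG]; exact ⟨x, hz, rfl⟩
      exact (Submodule.span_mono (t := Set.range (ρ ∘ g)) fun y hy => ⟨⟨y, hy⟩, hg _⟩) h2
    obtain ⟨k, hk, hkx⟩ := h1
    have hz' : (Submodule.Quotient.mk x : (Fin n → L) ⧸ K') = Submodule.Quotient.mk (x - k) := by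
      rw [Submodule.Quotient.eq, sub_sub_cancel]; exact hk
    rw [hz']
    have hcoord : ∀ i, (x - k) i ∈ J := fun i => by
      rw [← Submodule.Quotient.mk_eq_zero J, Pi.sub_apply, Submodule.Quotient.mk_sub]
      exact sub_eq_zero.mpr (congr_fun hkx i).symm
    rw [show x - k = ∑ i, (x - k) i • (Pi.single i 1 : Fin n → L) from pi_eq_sum_univ' (x - k),
      ← Submodule.mkQ_apply, map_sum]
    refine Submodule.sum_mem _ fun i _ => ?_
    rw [map_smul]
    exact Submodule.smul_mem_smul (hcoord i) trivial
  let v := (u.restrictScalars L) ∘ₗ τ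
  obtain ⟨h1, h2⟩ := inj_flat hLfp v fun z hz => by
    rw [← mem_smul_top_iff] at hz
    have hx := hu (τ z) hz
    rw [mem_smul_top_iff (S := L)] at hx
    have hle : (J • ⊤ : Submodule L N) ≤ (J • ⊤ : Submodule L ((Fin n → L) ⧸ K')).map τ := by
      rw [Submodule.map_smul'', Submodule.map_top, LinearMap.range_eq_top.mpr hτ]
    obtain ⟨y, hy, hyz⟩ := hle hx
    rw [show z = y + (z - y) by abel]
    exact add_mem hy (hkerτ _ (by rw [map_sub, hyz, sub_self]))
  refine ⟨fun a b hab => ?_, ?_⟩
  · obtain ⟨a, rfl⟩ := hτ a
    obtain ⟨b, rfl⟩ := hτ b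
    rw [h1 (show v a = v b from hab)]
  · have hr : LinearMap.range v = (LinearMap.range u).restrictScalars L := by
      rw [LinearMap.range_comp, LinearMap.range_eq_top.mpr hτ, Submodule.map_top, LinearMap.range_restrictScalars]
    exact Module.Flat.of_linearEquiv (((Submodule.Quotient.restrictScalarsEquiv L (LinearMap.range u)).symm ≪≫ₗ
      Submodule.quotEquivOfEq _ _ hr.symm).restrictScalars A)

end Groth.L02.InjFlat
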